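import Cfsg.Agent.Lib.Linear.TensorLine.Descent
import Cfsg.Agent.Lib.Linear.AschGen.Kron

/-!
# Maximality of tensor product stabilisers in the special linear group

For two factors of different dimensions.
-/

set_option autoImplicit false

namespace Cfsg.Lib.Linear.TensorLine

open Matrix Module
open scoped Kronecker
open Cfsg.Lib.Linear.ExtField (InG)
open Cfsg.Lib.Linear.AschGen (tensMat mem_tensorProductSubgroup_iff conjA_apply)

variable {F : Type*} [Field F] {m k : ℕ}
  {G : Subgroup (Matrix (Fin m) (Fin k) F ≃ₗ[F] Matrix (Fin m) (Fin k) F)}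

/-- All elementary transvections are obtained. -/
theorem elem_mem [Fintype F] (hG : OverT G) (hm : 2 ≤ m) (hmk : m < k)
    (hex : m = 2 → 3 ≤ Fintype.card F) (hmov : ∃ W, Moved G W) (z z' : Fin m × Fin k) (hne : z ≠ z')
    (c : F) : ∃ g ∈ G, ∀ M, g M = M + (c * M z'.1 z'.2) • Matrix.single z.1 z.2 1 := by
  classical
  have hk : 3 ≤ k := by omega
  obtain ⟨φ₀, hφ₀, hns⟩ := rich hG hm hmk hmov
  have htop : goodAlg hG hk = ⊤ := eq_top_of_conjClosed (goodAlg_conjClosed hG hk) hm hex hφ₀ hns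
  have hall : ∀ φ, Good G φ := fun φ => by
    have h : φ ∈ goodAlg hG hk := htop ▸ Algebra.mem_top
    exact h
  obtain ⟨a, i⟩ := z
  obtain ⟨a', j⟩ := z'
  let e : Fin k → Fin k → F := fun i => Pi.single i 1
  have he : ∀ i, e i ≠ 0 := fun i => by simp [e]
  have heij : ∀ {i j}, i ≠ j → e i ⬝ᵥ e j = 0 := fun h => by simp [e, h.symm]
  have hval : ∀ (i j : Fin k) (x y : Fin m) (c : F) (M : Matrix (Fin m) (Fin k) F),
      lin (e i) (e j) (Matrix.single x y c) M = (c * M y j) • Matrix.single x i 1 := by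
    intro i j x y c M
    rw [lin_apply']
    ext p q
    simp [e, vecMulVec_apply, Matrix.single_mulVec, Matrix.single_apply,
      Pi.single_apply, ite_and, eq_comm]
    split_ifs <;> simp_all [Function.update_apply, eq_comm]
  by_cases hij : i = j
  · subst hij
    have ha : a ≠ a' := fun h => hne (by rw [h])
    obtain ⟨l, hl⟩ : ∃ l, l ≠ i := by
      by_contra hc
      push Not at hc
      have : (Finset.univ : Finset (Fin k)) ⊆ {i} := fun x _ => by simp [hc x]
      have := Finset.card_le_card this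
      simp at this
      omega
    have hA := hall (Matrix.single a a c) (e i) (e l) (he i) (he l) (heij hl.symm)
    have hB := hall (Matrix.single a a' 1) (e l) (e i) (he l) (he i) (heij hl)
    obtain ⟨g, hg, hgM⟩ : InG G (lin (e i) (e i) (Matrix.single a a' c)) := by
      refine InG.comm hA hB (lin_sq (heij hl.symm) _ _) (lin_sq (heij hl) _ _) (fun M => ?_)
        fun M => ?_
      · rw [lin_lin, Matrix.single_mul_single_of_ne (h := ha.symm)]
        simp
      · rw [lin_lin, Matrix.single_mul_single_same, mul_one, show e l ⬝ᵥ e l = 1 by simp [e],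
          one_smul]
    exact ⟨g, hg, fun M => by rw [hgM, hval]⟩
  · obtain ⟨g, hg, hgM⟩ := hall (Matrix.single a a' c) (e i) (e j) (he i) (he j) (heij hij)
    exact ⟨g, hg, fun M => by rw [hgM, hval]⟩

/-- A bijection preserving the set of lines is a pair of multiplications. -/
theorem exists_pair (hm : 1 ≤ m) {g : Matrix (Fin m) (Fin k) F ≃ₗ[F] Matrix (Fin m) (Fin k) F}
    (h : ∀ v : Fin k → F, v ≠ 0 → ∃ b : Fin k → F, b ≠ 0 ∧
      (rline (m := m) v).map (g : Matrix (Fin m) (Fin k) F →ₗ[F] Matrix (Fin m) (Fin k) F) = rline b) :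
    ∃ (p : Matrix (Fin m) (Fin m) F) (q : Matrix (Fin k) (Fin k) F),
      p.det ≠ 0 ∧ q.det ≠ 0 ∧ ∀ M, g M = p * M * q := by
  classical
  rcases Nat.eq_zero_or_pos k with hk | hk
  · subst hk
    exact ⟨1, 1, by simp, by simp, fun M => Matrix.ext fun i j => j.elim0⟩
  let e : Fin k → Fin k → F := fun i => Pi.single i 1
  choose b hb hgb using h
  have hd : ∀ (v : Fin k → F) (hv : v ≠ 0), ∃ d, b v hv ⬝ᵥ d = 1 := fun v hv => by
    obtain ⟨d, -, hd⟩ := Rat0.exists_dot_pair (x := (0 : Fin k → F)) (y := b v hv)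
      (by simpa using hb v hv)
    exact ⟨d, hd⟩
  choose d hd using hd
  let ψ : (v : Fin k → F) → v ≠ 0 → (Fin m → F) →ₗ[F] (Fin m → F) := fun v hv =>
    { toFun := fun a => g (vecMulVec a v) *ᵥ d v hv
      map_add' := fun a a' => by rw [Matrix.add_vecMulVec, map_add, Matrix.add_mulVec]
      map_smul' := fun t a => by
        rw [Matrix.smul_vecMulVec, map_smul, Matrix.smul_mulVec, RingHom.id_apply] }
  have hψ : ∀ v hv a, g (vecMulVec a v) = vecMulVec (ψ v hv a) (b v hv) := by
    intro v hv a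
    have : g (vecMulVec a v) ∈ rline (m := m) (b v hv) := hgb v hv ▸ ⟨_, ⟨a, rfl⟩, rfl⟩
    obtain ⟨y, hy⟩ := this
    show _ = vecMulVec (g (vecMulVec a v) *ᵥ d v hv) (b v hv)
    rw [hy, vecMulVec_mulVec', hd, one_smul]
  have he : ∀ i, e i ≠ 0 := fun i => by simp [e]
  let i₀ : Fin k := ⟨0, hk⟩
  let a₀ : Fin m → F := Pi.single ⟨0, hm⟩ 1
  have ha₀ : a₀ ≠ 0 := by simp [a₀]
  have hprop : ∀ j, ∃ l : F, ∀ a, ψ (e j) (he j) a = l • ψ (e i₀) (he i₀) a := by
    intro j
    by_cases hj : j = i₀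
    · subst hj
      exact ⟨1, fun a => (one_smul _ _).symm⟩
    have hs : e j + e i₀ ≠ 0 := fun h0 => by
      have := congrFun h0 j
      simp [e, hj] at this
    obtain ⟨ν, h1, h2⟩ := Rat0.exists_dot_pair (x := b (e j) (he j)) (y := b (e i₀) (he i₀))
      fun c hc => by
        have hc0 : c ≠ 0 := fun h0 => hb _ (he i₀) (by rw [hc, h0, zero_smul])
        have hsur : g (vecMulVec a₀ (e i₀)) ∈ (rline (m := m) (e j)).map
            (g : Matrix (Fin m) (Fin k) F →ₗ[F] Matrix (Fin m) (Fin k) F) := by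
          rw [hgb (e j) (he j), hψ _ (he i₀), hc, Matrix.vecMulVec_smul]
          exact Submodule.smul_mem _ _ ⟨_, rfl⟩
        obtain ⟨_, ⟨y, rfl⟩, hy⟩ := hsur
        have h3 : vecMulVec y (e j) = vecMulVec a₀ (e i₀) := g.injective hy
        have h4 := congrFun (congrFun h3 ⟨0, hm⟩) i₀
        simp [e, a₀, vecMulVec_apply, hj, Pi.single_apply, eq_comm] at h4
    obtain ⟨ν', h3, h4⟩ := Rat0.exists_dot_pair (x := b (e i₀) (he i₀)) (y := b (e j) (he j))
      fun c hc => by
        have h5 : b (e j) (he j) ⬝ᵥ ν = 0 := h1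
        rw [hc, smul_dotProduct, h2, smul_eq_mul, mul_one] at h5
        exact hb _ (he j) (by rw [hc, h5, zero_smul])
    have key : ∀ a, vecMulVec (ψ (e j) (he j) a) (b (e j) (he j)) +
        vecMulVec (ψ (e i₀) (he i₀) a) (b (e i₀) (he i₀)) =
        vecMulVec (ψ _ hs a) (b _ hs) := fun a => by
      rw [← hψ, ← hψ, ← hψ, ← map_add, ← Matrix.vecMulVec_add]
    have k1 : ∀ a, ψ (e i₀) (he i₀) a = (b _ hs ⬝ᵥ ν) • ψ _ hs a := fun a => by
      have := congrArg (fun M => M *ᵥ ν) (key a)
      simpa [Matrix.add_mulVec, vecMulVec_mulVec', h1, h2] using this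
    have k2 : ∀ a, ψ (e j) (he j) a = (b _ hs ⬝ᵥ ν') • ψ _ hs a := fun a => by
      have := congrArg (fun M => M *ᵥ ν') (key a)
      simpa [Matrix.add_mulVec, vecMulVec_mulVec', h3, h4] using this
    refine ⟨(b _ hs ⬝ᵥ ν') / (b _ hs ⬝ᵥ ν), fun a => ?_⟩
    have hne : b _ hs ⬝ᵥ ν ≠ 0 := fun h0 => by
      have := hψ (e i₀) (he i₀) a₀
      rw [k1, h0, zero_smul] at this
      have h5 : vecMulVec a₀ (e i₀) = 0 := g.map_eq_zero_iff.1 (this.trans (by simp))
      have h6 := congrFun (congrFun h5 ⟨0, hm⟩) i₀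
      simp [e, a₀, vecMulVec_apply] at h6
    rw [k2, k1, smul_smul, div_mul_cancel₀ _ hne]
  choose l hl using hprop
  set p := LinearMap.toMatrix' (ψ (e i₀) (he i₀))
  set q : Matrix (Fin k) (Fin k) F := Matrix.of fun j => l j • b (e j) (he j)
  have hp : ∀ a, p *ᵥ a = ψ (e i₀) (he i₀) a := fun a => by
    rw [← Matrix.toLin'_apply, Matrix.toLin'_toMatrix']
  have hq : ∀ j, Pi.single j 1 ᵥ* q = l j • b (e j) (he j) := fun j => by
    rw [Matrix.single_one_vecMul]
    rfl
  have hgM : ∀ M, g M = p * M * q := by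
    intro M
    have eM : M = ∑ j, vecMulVec (fun i => M i j) (e j) := by
      ext i j
      simp [e, Matrix.sum_apply, vecMulVec_apply, Pi.single_apply]
    conv_lhs => rw [eM, map_sum]
    conv_rhs => rw [eM, Matrix.mul_sum, Matrix.sum_mul]
    refine Finset.sum_congr rfl fun j _ => ?_
    rw [hψ _ (he j), hl, Matrix.mul_vecMulVec, Matrix.vecMulVec_mul, hp, hq, Matrix.vecMulVec_smul,
      Matrix.smul_vecMulVec]
  refine ⟨p, q, fun h0 => ?_, fun h0 => ?_, hgM⟩
  · obtain ⟨a, ha, hpa⟩ := Matrix.exists_mulVec_eq_zero_iff.2 h0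
    have h5 : vecMulVec a (e i₀) = 0 := g.map_eq_zero_iff.1 (by
      rw [hgM, Matrix.mul_vecMulVec, hpa]
      simp)
    exact ha (vecMulVec_left_injective (he i₀) (show vecMulVec a (e i₀) = vecMulVec 0 (e i₀) by
      rw [h5]; simp))
  · obtain ⟨v, hv, hvq⟩ := Matrix.exists_vecMul_eq_zero_iff.2 h0
    have h5 : vecMulVec a₀ v = 0 := g.map_eq_zero_iff.1 (by
      rw [hgM, Matrix.mul_assoc, Matrix.vecMulVec_mul, hvq]
      ext i j
      simp [Matrix.mul_apply, vecMulVec_apply])
    refine hv (funext fun j => ?_)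
    have h6 := congrFun (congrFun h5 ⟨0, hm⟩) j
    simpa [a₀, vecMulVec_apply] using h6

section Concrete

variable {n : ℕ} (e : Fin n ≃ Fin m × Fin k) (P : GL (Fin n) F)

/-- Coordinates of the decomposition. -/
def coords : (Fin n → F) ≃ₗ[F] Matrix (Fin m) (Fin k) F where
  toFun v := Matrix.of fun a b => (((P⁻¹ : GL (Fin n) F) : Matrix (Fin n) (Fin n) F) *ᵥ v) (e.symm (a, b))
  map_add' v w := by ext a b; simp [Matrix.mulVec_add]
  map_smul' c v := by ext a b; simp [Matrix.mulVec_smul]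
  invFun M := (P : Matrix (Fin n) (Fin n) F) *ᵥ fun i => M (e i).1 (e i).2
  left_inv v := by
    show (P : Matrix (Fin n) (Fin n) F) *ᵥ (fun i => (((P⁻¹ : GL (Fin n) F) : Matrix (Fin n) (Fin n) F) *ᵥ v) (e.symm (e i))) = v
    simp only [Equiv.symm_apply_apply]
    rw [Matrix.mulVec_mulVec, ← Units.val_mul, mul_inv_cancel, Units.val_one, Matrix.one_mulVec]
  right_inv M := by
    ext a b
    show (((P⁻¹ : GL (Fin n) F) : Matrix (Fin n) (Fin n) F) *ᵥ ((P : Matrix (Fin n) (Fin n) F) *ᵥ fun i => M (e i).1 (e i).2)) (e.symm (a, b)) = M a b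
    rw [Matrix.mulVec_mulVec, ← Units.val_mul, inv_mul_cancel, Units.val_one, Matrix.one_mulVec,
      Equiv.apply_symm_apply]

/-- The action on tensors. -/
def act : GL (Fin n) F →* (Matrix (Fin m) (Fin k) F ≃ₗ[F] Matrix (Fin m) (Fin k) F) where
  toFun g := (coords e P).symm.trans ((Matrix.toLin'OfInv (M' := ((g : GL (Fin n) F) : Matrix (Fin n) (Fin n) F))
    (M := ((g⁻¹ : GL (Fin n) F) : Matrix (Fin n) (Fin n) F)) (Units.inv_mul g) (Units.mul_inv g)).trans (coords e P))
  map_one' := by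
    refine LinearEquiv.ext fun M => ?_
    show coords e P (((1 : GL (Fin n) F) : Matrix (Fin n) (Fin n) F) *ᵥ (coords e P).symm M) = M
    rw [Units.val_one, Matrix.one_mulVec, LinearEquiv.apply_symm_apply]
  map_mul' g h := by
    refine LinearEquiv.ext fun M => ?_
    show coords e P (((g * h : GL (Fin n) F) : Matrix (Fin n) (Fin n) F) *ᵥ (coords e P).symm M) =
      coords e P ((g : Matrix (Fin n) (Fin n) F) *ᵥ (coords e P).symm (coords e P ((h : Matrix (Fin n) (Fin n) F) *ᵥ (coords e P).symm M)))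
    rw [LinearEquiv.symm_apply_apply, Units.val_mul, ← Matrix.mulVec_mulVec]

theorem act_apply (g : GL (Fin n) F) (M : Matrix (Fin m) (Fin k) F) :
    act e P g M = coords e P ((g : Matrix (Fin n) (Fin n) F) *ᵥ (coords e P).symm M) := rfl

theorem act_injective : Function.Injective (act e P) := by
  intro g h hgh
  refine Units.ext (Matrix.toLin'.injective (LinearMap.ext fun v => ?_))
  have := LinearEquiv.congr_fun hgh (coords e P v)
  rw [act_apply, act_apply, LinearEquiv.symm_apply_apply] at this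
  simpa using (coords e P).injective this

theorem act_tensMat {g : GL (Fin n) F} {a : Matrix (Fin m) (Fin m) F} {b : Matrix (Fin k) (Fin k) F}
    (hg : (g : Matrix (Fin n) (Fin n) F) = tensMat e P a b) (M : Matrix (Fin m) (Fin k) F) :
    act e P g M = a * M * b.transpose := by
  rw [act_apply, hg, tensMat, conjA_apply]
  ext x y
  show (((P⁻¹ : GL (Fin n) F) : Matrix (Fin n) (Fin n) F) *ᵥ _) (e.symm (x, y)) = _
  rw [show (coords e P).symm M = (P : Matrix (Fin n) (Fin n) F) *ᵥ fun i => M (e i).1 (e i).2 from rfl,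
    Matrix.mulVec_mulVec, Matrix.mulVec_mulVec]
  simp only [← mul_assoc, ← Units.val_mul, inv_mul_cancel, Units.val_one, one_mul]
  rw [mul_assoc, ← Units.val_mul, inv_mul_cancel, Units.val_one, mul_one]
  simp only [Matrix.mulVec, dotProduct, Matrix.submatrix_apply, Equiv.apply_symm_apply,
    Matrix.kroneckerMap_apply, Matrix.mul_apply, Matrix.transpose_apply]
  rw [← e.symm.sum_comp]
  simp only [Equiv.apply_symm_apply, Fintype.sum_prod_type, Finset.sum_mul]
  rw [Finset.sum_comm]
  refine Finset.sum_congr rfl fun j _ => Finset.sum_congr rfl fun i _ => ?_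
  ring

theorem det_tensMat (a : Matrix (Fin m) (Fin m) F) (b : Matrix (Fin k) (Fin k) F) :
    (tensMat e P a b).det = a.det ^ k * b.det ^ m := by
  rw [tensMat, conjA_apply, Matrix.det_mul, Matrix.det_mul, Matrix.det_submatrix_equiv_self,
    Matrix.det_kronecker, Fintype.card_fin, Fintype.card_fin, mul_comm (P : Matrix (Fin n) (Fin n) F).det,
    mul_assoc, ← Matrix.det_mul, ← Units.val_mul, mul_inv_cancel, Units.val_one, Matrix.det_one,
    mul_one]

/-- The intersection of the stabiliser with the special linear group is maximal in the latter. -/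
theorem isMaximalIn_tensor [Fintype F] (hm : 2 ≤ m) (hmk : m < k)
    (hex : m = 2 → 3 ≤ Fintype.card F) :
    Cfsg.Geo.IsMaximalIn (Cfsg.Geo.specialLinear (Fin n) F)
      (Cfsg.Geo.tensorProductSubgroup m k e P ⊓ Cfsg.Geo.specialLinear (Fin n) F) := by
  classical
  set T := Cfsg.Geo.tensorProductSubgroup m k e P
  set SL := Cfsg.Geo.specialLinear (Fin n) F
  have hmem : ∀ (a : Matrix (Fin m) (Fin m) F) (b : Matrix (Fin k) (Fin k) F), a.det = 1 → b.det = 1 →
      ∃ g ∈ T ⊓ SL, ∀ M, act e P g M = a * M * b.transpose := by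
    intro a b ha hb
    let A := Matrix.GeneralLinearGroup.mkOfDetNeZero a (by rw [ha]; exact one_ne_zero)
    let B := Matrix.GeneralLinearGroup.mkOfDetNeZero b (by rw [hb]; exact one_ne_zero)
    let g := Matrix.GeneralLinearGroup.mkOfDetNeZero (tensMat e P a b)
      (by rw [det_tensMat, ha, hb]; simp)
    exact ⟨g, ⟨mem_tensorProductSubgroup_iff.2 ⟨A, B, rfl⟩,
      MonoidHom.mem_ker.2 (Units.ext (show (tensMat e P a b).det = 1 by rw [det_tensMat, ha, hb]; simp))⟩,
      fun M => act_tensMat e P rfl M⟩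
  refine ⟨lt_of_le_of_ne inf_le_right fun h => ?_, fun L hL hLS => ?_⟩
  · let i : Fin m × Fin k := (⟨0, by omega⟩, ⟨0, by omega⟩)
    let j : Fin m × Fin k := (⟨1, by omega⟩, ⟨1, by omega⟩)
    have hij : i ≠ j := by simp [i, j]
    let z := (coords e P).symm (Matrix.single i.1 i.2 1)
    let f : (Fin n → F) →ₗ[F] F :=
      { toFun := fun v => coords e P v j.1 j.2
        map_add' := fun v w => by rw [map_add]; rfl
        map_smul' := fun c v => by rw [map_smul]; rfl }
    let a : Fin n → F := fun l => f (Pi.single l 1)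
    have hf : ∀ v, a ⬝ᵥ v = f v := fun v => by
      conv_rhs => rw [← Finset.univ_sum_single v]
      rw [map_sum]
      refine Finset.sum_congr rfl fun l _ => ?_
      rw [show (Pi.single l (v l) : Fin n → F) = v l • Pi.single l 1 by simp [← Pi.single_smul],
        map_smul, smul_eq_mul, mul_comm]
    have h0 : a ⬝ᵥ z = 0 := by
      rw [hf]
      show coords e P z j.1 j.2 = 0
      simp [z, i, j]
    have hT : tv z a h0 ∈ T := ((le_of_eq h.symm) (tv_mem_SL z a h0)).1
    obtain ⟨A, B, hAB⟩ := mem_tensorProductSubgroup_iff.1 hT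
    have hval : ∀ M, act e P (tv z a h0) M = M + (M j.1 j.2) • Matrix.single i.1 i.2 1 := fun M => by
      rw [act_apply, coe_tv, tvMat_mulVec, map_add, LinearEquiv.apply_symm_apply, map_smul, hf]
      show _ + coords e P ((coords e P).symm M) j.1 j.2 • coords e P z = _
      rw [LinearEquiv.apply_symm_apply, LinearEquiv.apply_symm_apply]
    have h1 := (hval (Matrix.single j.1 j.2 1)).symm.trans (act_tensMat e P hAB _)
    have e1 := congrFun (congrFun h1 i.1) i.2
    have e2 := congrFun (congrFun h1 j.1) j.2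
    have e3 := congrFun (congrFun h1 i.1) j.2
    have hs : ∀ x y : Fin m × Fin k, Matrix.single x.1 x.2 (1 : F) y.1 y.2 = if x = y then 1 else 0 := fun x y => by
      simp [Matrix.single_apply, Prod.ext_iff]
    rw [Matrix.single_eq_single_vecMulVec_single j.1 j.2, Matrix.mul_vecMulVec, Matrix.vecMulVec_mul,
      ← Matrix.single_eq_single_vecMulVec_single j.1 j.2] at e1 e2 e3
    simp [i, j, vecMulVec_apply, Matrix.single_apply] at e1 e2 e3
    rcases e3 with e3 | e3
    · simp [e3] at e1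
    · simp [e3] at e2
  by_cases hLT : L ≤ T
  · exact Or.inl (le_antisymm (le_inf hLT hLS) hL)
  refine Or.inr (le_antisymm hLS ?_)
  obtain ⟨g, hg, hgT⟩ := SetLike.not_le_iff_exists.1 hLT
  set G := L.map (act e P)
  have hG : OverT G := by
    refine ⟨fun p hp => ?_, fun q hq => ?_⟩
    · obtain ⟨x, hx, hxM⟩ := hmem p 1 hp Matrix.det_one
      exact ⟨_, ⟨x, hL hx, rfl⟩, fun M => by rw [hxM, Matrix.transpose_one, Matrix.mul_one]⟩
    · obtain ⟨x, hx, hxM⟩ := hmem 1 q.transpose Matrix.det_one (by rw [Matrix.det_transpose, hq])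
      exact ⟨_, ⟨x, hL hx, rfl⟩, fun M => by rw [hxM, Matrix.transpose_transpose, Matrix.one_mul]⟩
  have hmov : ∃ W, Moved G W := by
    by_contra hc
    push Not at hc
    obtain ⟨p, q, hp, hq, hpq⟩ := exists_pair (g := act e P g) (by omega) fun v hv => by
      have := hc ((rline (m := m) v).map (act e P g : Matrix (Fin m) (Fin k) F →ₗ[F] Matrix (Fin m) (Fin k) F))
      simp only [Moved, not_and, not_forall, Classical.not_not] at this
      obtain ⟨b, hb, hb'⟩ := this ⟨_, ⟨g, hg, rfl⟩, v, hv, rfl⟩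
      exact ⟨b, hb, hb'⟩
    refine hgT ?_
    let A := Matrix.GeneralLinearGroup.mkOfDetNeZero p hp
    let B := Matrix.GeneralLinearGroup.mkOfDetNeZero q.transpose (by rwa [Matrix.det_transpose])
    let x := Matrix.GeneralLinearGroup.mkOfDetNeZero (tensMat e P p q.transpose)
      (by rw [det_tensMat, Matrix.det_transpose]; exact mul_ne_zero (pow_ne_zero _ hp) (pow_ne_zero _ hq))
    have : g = x := act_injective e P (LinearEquiv.ext fun M => by
      rw [hpq, act_tensMat e P (g := x) (a := p) (b := q.transpose) rfl, Matrix.transpose_transpose])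
    exact mem_tensorProductSubgroup_iff.2 ⟨A, B, by rw [this]; rfl⟩
  -- elementary transvections in the decomposed basis
  set R := L.map (MulAut.conj P⁻¹).toMonoidHom
  have hR : SL ≤ R := Rat0.SL_le_of_elem fun i j hij c => by
    obtain ⟨x, hx, hxM⟩ := elem_mem hG hm hmk hex hmov (e i) (e j) (fun h => hij (e.injective h)) c
    obtain ⟨y, hy, rfl⟩ := hx
    have h0 : (c • Pi.single j 1 : Fin n → F) ⬝ᵥ Pi.single i 1 = 0 := by simp [hij.symm]
    refine ⟨h0, y, hy, ?_⟩
    refine Units.ext (Matrix.toLin'.injective (LinearMap.ext fun v => ?_))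
    rw [Matrix.toLin'_apply, Matrix.toLin'_apply, coe_tv, tvMat_mulVec]
    show (((P⁻¹ : GL (Fin n) F) * y * (P⁻¹)⁻¹ : GL (Fin n) F) : Matrix (Fin n) (Fin n) F) *ᵥ v = _
    rw [inv_inv, Units.val_mul, Units.val_mul, ← Matrix.mulVec_mulVec, ← Matrix.mulVec_mulVec]
    set w := (P : Matrix (Fin n) (Fin n) F) *ᵥ v
    have h2 := hxM (coords e P w)
    rw [act_apply, LinearEquiv.symm_apply_apply] at h2
    funext l
    have h3 := congrFun (congrFun h2 (e l).1) (e l).2
    have hc : ∀ u l, coords e P u (e l).1 (e l).2 = (((P⁻¹ : GL (Fin n) F) : Matrix (Fin n) (Fin n) F) *ᵥ u) l :=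
      fun u l => by
        show (((P⁻¹ : GL (Fin n) F) : Matrix (Fin n) (Fin n) F) *ᵥ u) (e.symm ((e l).1, (e l).2)) = _
        rw [Prod.mk.eta, e.symm_apply_apply]
    simp only [Matrix.add_apply, Matrix.smul_apply, hc, smul_eq_mul] at h3
    rw [h3]
    simp only [w, Matrix.mulVec_mulVec, ← Units.val_mul, inv_mul_cancel, Units.val_one,
      Matrix.one_mulVec]
    by_cases hil : i = l
    · subst hil
      simp
    · have hne : ¬ ((e i).1 = (e l).1 ∧ (e i).2 = (e l).2) := fun hh => hil (e.injective (Prod.ext hh.1 hh.2))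
      simp [Matrix.single_apply, hne, Pi.single_apply, Ne.symm hil]
  intro x hx
  have h1 : P⁻¹ * x * P ∈ SL := by
    show Matrix.GeneralLinearGroup.det _ = 1
    rw [map_mul, map_mul, MonoidHom.mem_ker.1 hx, mul_one, ← map_mul, inv_mul_cancel, map_one]
  obtain ⟨y, hy, hye⟩ := hR h1
  have h2 : P⁻¹ * y * (P⁻¹)⁻¹ = P⁻¹ * x * P := hye
  rw [inv_inv] at h2
  exact (mul_left_cancel (mul_right_cancel h2)) ▸ hy

end Concrete

end Cfsg.Lib.Linear.TensorLine
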