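import Cfsg.Agent.Lib.Linear.SubfieldBasic

/-!
# Conjugation invariant algebras of matrices

A subalgebra of a full matrix algebra stable under conjugation by matrices of determinant one
and not consisting of scalars is everything.
-/

set_option autoImplicit false

namespace Cfsg.Lib.Linear.TensorLine

open Matrix
open Cfsg.Lib.Linear.Rat0 (exists_dot_pair exists_perp_pair exists_perp_notMem)

variable {F : Type*} [Field F] {m : ℕ}

local notation "A" => Matrix (Fin m) (Fin m) F

theorem vecMulVec_mul_mul (x y x' y' : Fin m → F) (M : A) :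
    vecMulVec x y * M * vecMulVec x' y' = (y ⬝ᵥ (M *ᵥ x')) • vecMulVec x y' := by
  rw [Matrix.mul_assoc, Matrix.mul_vecMulVec, Matrix.vecMulVec_mul_vecMulVec]
  rw [Matrix.vecMulVec_smul]

theorem vecMulVec_mul' (x y x' y' : Fin m → F) :
    vecMulVec x y * vecMulVec x' y' = (y ⬝ᵥ x') • vecMulVec x y' := by
  simpa using vecMulVec_mul_mul x y x' y' (1 : A)

/-- A matrix which is not scalar moves some line. -/
theorem exists_moved_line {φ : A} (h : ∀ c : F, φ ≠ c • 1) : ∃ x : Fin m → F, ∀ c : F, φ *ᵥ x ≠ c • x := by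
  by_contra hc
  push Not at hc
  choose l hl using hc
  rcases Nat.eq_zero_or_pos m with rfl | hm
  · exact h 0 (Matrix.ext fun i => i.elim0)
  let e : Fin m → Fin m → F := fun i => Pi.single i 1
  have key : ∀ i j, l (e i) = l (e j) := by
    intro i j
    rcases eq_or_ne i j with rfl | hij
    · rfl
    have h1 := hl (e i + e j)
    rw [Matrix.mulVec_add, hl, hl] at h1
    have hi := congrFun h1 i
    have hj := congrFun h1 j
    simp [e, hij, hij.symm] at hi hj
    rw [hi, hj]
  refine h (l (e ⟨0, hm⟩)) (Matrix.ext fun i j => ?_)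
  have h1 := congrFun (hl (e j)) i
  rw [key j ⟨0, hm⟩] at h1
  simpa [e, Matrix.one_apply, Pi.single_apply, eq_comm] using h1

variable (C : Subalgebra F (Matrix (Fin m) (Fin m) F))

/-- Stable under conjugation by elementary matrices. -/
def ConjClosed : Prop :=
  ∀ x y : Fin m → F, y ⬝ᵥ x = 0 → ∀ φ ∈ C, (1 + vecMulVec x y) * φ * (1 - vecMulVec x y) ∈ C

variable {C}

theorem conj_sub_mem (hC : ConjClosed C) {x y : Fin m → F} (h : y ⬝ᵥ x = 0) {φ : A} (hφ : φ ∈ C) :
    vecMulVec x y * φ - φ * vecMulVec x y - vecMulVec x y * φ * vecMulVec x y ∈ C := by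
  have e : vecMulVec x y * φ - φ * vecMulVec x y - vecMulVec x y * φ * vecMulVec x y =
      (1 + vecMulVec x y) * φ * (1 - vecMulVec x y) - φ := by
    simp only [add_mul, mul_sub, one_mul, mul_one]
    abel
  rw [e]
  exact C.sub_mem (hC x y h φ hφ) hφ

theorem rankOne_conj (hC : ConjClosed C) {c f d h : Fin m → F} (hdh : h ⬝ᵥ d = 0)
    (hE : vecMulVec c f ∈ C) :
    vecMulVec (c + (h ⬝ᵥ c) • d) (f - (f ⬝ᵥ d) • h) ∈ C := by
  have e : vecMulVec (c + (h ⬝ᵥ c) • d) (f - (f ⬝ᵥ d) • h) =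
      (1 + vecMulVec d h) * vecMulVec c f * (1 - vecMulVec d h) := by
    simp only [add_mul, one_mul, mul_sub, mul_one, vecMulVec_mul', Matrix.smul_mul,
      Matrix.add_vecMulVec, Matrix.vecMulVec_sub, Matrix.smul_vecMulVec, Matrix.vecMulVec_smul,
      smul_add, smul_sub]
    module
  rw [e]
  exact hC d h hdh _ hE

/-- An elementary nilpotent matrix in the algebra, in dimension at least three. -/
theorem exists_rankOne (hC : ConjClosed C) (h3 : 3 ≤ m) {φ : A} (hφ : φ ∈ C)
    {c : Fin m → F} (hc : ∀ t : F, φ *ᵥ c ≠ t • c) :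
    ∃ f : Fin m → F, f ≠ 0 ∧ f ⬝ᵥ c = 0 ∧ vecMulVec c f ∈ C := by
  obtain ⟨f, hf, hfc, hfφ⟩ := exists_perp_pair (by simpa using h3) c (φ *ᵥ c)
  rw [dotProduct_comm] at hfc hfφ
  obtain ⟨h, hhc, hhφ⟩ := exists_dot_pair hc
  rw [dotProduct_comm] at hhc hhφ
  set E := vecMulVec c f
  set E₃ := vecMulVec c h
  refine ⟨f, hf, hfc, ?_⟩
  have hD := conj_sub_mem hC hfc hφ
  rw [vecMulVec_mul_mul, hfφ, zero_smul, sub_zero] at hD
  have hD' := conj_sub_mem hC hhc hD
  have e1 : E₃ * (E * φ) = 0 := by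
    rw [← Matrix.mul_assoc, vecMulVec_mul', hhc, zero_smul, Matrix.zero_mul]
  have e2 : E₃ * (φ * E) = E := by
    rw [← Matrix.mul_assoc, vecMulVec_mul_mul, hhφ, one_smul]
  have e3 : E * φ * E₃ = 0 := by rw [vecMulVec_mul_mul, hfφ, zero_smul]
  have e4 : φ * E * E₃ = 0 := by
    rw [Matrix.mul_assoc, vecMulVec_mul', hfc, zero_smul, Matrix.mul_zero]
  have e : E₃ * (E * φ - φ * E) - (E * φ - φ * E) * E₃ - E₃ * (E * φ - φ * E) * E₃ = -E := by
    have e5 : E * E₃ = 0 := by rw [vecMulVec_mul', hfc, zero_smul]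
    simp only [mul_sub, sub_mul, e1, e2, e3, e4, e5, Matrix.zero_mul, sub_zero, zero_sub, neg_neg]
    simp [e5]
  rw [e] at hD'
  simpa using C.neg_mem hD'

/-- In dimension at least three every rank one matrix is obtained. -/
theorem rankOne_mem (hC : ConjClosed C) (h3 : 3 ≤ m) {c f : Fin m → F} (hc : c ≠ 0) (hf : f ≠ 0)
    (hfc : f ⬝ᵥ c = 0) (hE : vecMulVec c f ∈ C) (x y : Fin m → F) : vecMulVec x y ∈ C := by
  have hleft : ∀ {c f : Fin m → F}, vecMulVec c f ∈ C → c ≠ 0 → f ⬝ᵥ c = 0 → ∀ d, f ⬝ᵥ d = 0 →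
      vecMulVec d f ∈ C := by
    intro c f hE hc hfc d hd
    by_cases hdc : ∃ t : F, d = t • c
    · obtain ⟨t, rfl⟩ := hdc
      rw [Matrix.smul_vecMulVec]
      exact C.smul_mem hE t
    push Not at hdc
    obtain ⟨h, hhd, hhc⟩ := exists_dot_pair (x := d) (y := c) fun t e => by
      rcases eq_or_ne t 0 with rfl | ht
      · exact hc (by rw [e, zero_smul])
      · exact hdc t⁻¹ (by rw [e, smul_smul, inv_mul_cancel₀ ht, one_smul])
    rw [dotProduct_comm] at hhd hhc
    have := rankOne_conj hC hhd hE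
    rw [hhc, hd, one_smul, zero_smul, sub_zero, Matrix.add_vecMulVec] at this
    simpa using C.sub_mem this hE
  have hright : ∀ {c f : Fin m → F}, vecMulVec c f ∈ C → f ≠ 0 → f ⬝ᵥ c = 0 → ∀ g, g ⬝ᵥ c = 0 →
      vecMulVec c g ∈ C := by
    intro c f hE hf hfc g hg
    by_cases hgf : ∃ t : F, g = t • f
    · obtain ⟨t, rfl⟩ := hgf
      rw [Matrix.vecMulVec_smul]
      exact C.smul_mem hE t
    push Not at hgf
    obtain ⟨d, hgd, hfd⟩ := exists_dot_pair (x := g) (y := f) fun t e => by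
      rcases eq_or_ne t 0 with rfl | ht
      · exact hf (by rw [e, zero_smul])
      · exact hgf t⁻¹ (by rw [e, smul_smul, inv_mul_cancel₀ ht, one_smul])
    have := rankOne_conj hC (h := -g) (by rw [neg_dotProduct, hgd, neg_zero]) hE
    rw [neg_dotProduct, hg, neg_zero, zero_smul, add_zero, hfd, one_smul, sub_neg_eq_add,
      Matrix.vecMulVec_add] at this
    simpa using C.sub_mem this hE
  have hperp : ∀ x y : Fin m → F, y ⬝ᵥ x = 0 → vecMulVec x y ∈ C := by
    intro x y hyx
    obtain ⟨f₁, hf₁, h1, h2⟩ := exists_perp_pair (by simpa using h3) c x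
    rw [dotProduct_comm] at h1 h2
    exact hright (hleft (hright hE hf hfc f₁ h1) hc h1 x h2) hf₁ h2 y hyx
  rcases eq_or_ne y 0 with rfl | hy
  · simp
  obtain ⟨y₁, hy₁x, hy₁, hy₁y⟩ := exists_perp_notMem (by simpa using h3) x y
  obtain ⟨d, hyd, hy₁d⟩ := exists_dot_pair (x := y) (y := y₁) hy₁y
  have := C.mul_mem (hperp x y₁ hy₁x) (hperp d y (by rw [hyd]))
  rwa [vecMulVec_mul', hy₁d, one_smul] at this

/-- In dimension two over at least three scalars. -/
theorem top_two [Fintype F] (hC : ConjClosed C) (hq : 3 ≤ Fintype.card F) (h2 : m = 2) {φ : A} (hφ : φ ∈ C)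
    {c : Fin m → F} (hc : ∀ t : F, φ *ᵥ c ≠ t • c) : C = ⊤ := by
  classical
  obtain ⟨ε, hε0, hε1⟩ : ∃ ε : F, ε ≠ 0 ∧ ε ≠ 1 := by
    by_contra h
    push Not at h
    have : (Finset.univ : Finset F) ⊆ {0, 1} := fun x _ => by
      rcases eq_or_ne x 0 with rfl | hx
      · simp
      · simp [h x hx]
    have := (Finset.card_le_card this).trans Finset.card_le_two
    rw [Finset.card_univ] at this
    omega
  have hpoly : ∀ X Y : A, (∀ t : F, t • X - (t * t) • Y ∈ C) → Y ∈ C ∧ X ∈ C := by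
    intro X Y h
    have h1 := h 1
    have h2 := C.smul_mem (h ε) ε⁻¹
    rw [smul_sub, smul_smul, smul_smul, inv_mul_cancel₀ hε0, inv_mul_cancel_left₀ hε0, one_smul] at h2
    rw [one_smul, mul_one, one_smul] at h1
    have h3 := C.sub_mem h1 h2
    rw [show X - Y - (X - ε • Y) = (ε - 1) • Y by rw [sub_smul, one_smul]; abel] at h3
    have hY : Y ∈ C := by
      have := C.smul_mem h3 (ε - 1)⁻¹
      rwa [smul_smul, inv_mul_cancel₀ (sub_ne_zero.2 hε1), one_smul] at this
    exact ⟨hY, by simpa using C.add_mem h1 hY⟩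
  obtain ⟨f, hfc, hfφ⟩ := exists_dot_pair hc
  rw [dotProduct_comm] at hfc hfφ
  set E := vecMulVec c f
  have hE : E ∈ C := by
    refine (hpoly (E * φ - φ * E) E fun t => ?_).1
    have := conj_sub_mem hC (x := t • c) (y := f) (by rw [dotProduct_smul, hfc, smul_zero]) hφ
    rw [vecMulVec_mul_mul, Matrix.smul_vecMulVec, Matrix.mulVec_smul, dotProduct_smul, hfφ,
      smul_eq_mul, mul_one, smul_smul, Matrix.smul_mul, Matrix.mul_smul, ← smul_sub] at this
    exact this
  have hcne : c ≠ 0 := fun e => hc 0 (by rw [e, Matrix.mulVec_zero, smul_zero])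
  set d := φ *ᵥ c
  obtain ⟨h, hhd, hhc⟩ := exists_dot_pair (x := d) (y := c) fun t e => by
    rcases eq_or_ne t 0 with rfl | ht
    · exact hcne (by rw [e, zero_smul])
    · exact hc t⁻¹ (by rw [e, smul_smul, inv_mul_cancel₀ ht, one_smul])
  rw [dotProduct_comm] at hhd hhc
  have hdh : vecMulVec d h ∈ C := by
    refine (hpoly (vecMulVec d f - vecMulVec c h) (vecMulVec d h) fun t => ?_).1
    have := rankOne_conj hC (d := t • d) (h := h) (by rw [dotProduct_smul, hhd, smul_zero]) hE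
    rw [hhc, one_smul, dotProduct_smul, hfφ, smul_eq_mul, mul_one] at this
    have h' := C.sub_mem this hE
    convert h' using 1
    simp only [E, Matrix.add_vecMulVec, Matrix.vecMulVec_sub, Matrix.smul_vecMulVec,
      Matrix.vecMulVec_smul, smul_sub, smul_smul]
    module
  have hch : vecMulVec c h ∈ C := by
    have := C.mul_mem hE hdh
    rwa [vecMulVec_mul', hfφ, one_smul] at this
  have hdf : vecMulVec d f ∈ C := by
    have := C.mul_mem hdh hE
    rwa [vecMulVec_mul', hhc, one_smul] at this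
  set J : A := vecMulVec c h + vecMulVec d f
  have hJ : J = 1 := by
    have hli : LinearIndependent F ![c, d] := by
      rw [LinearIndependent.pair_iff' hcne]
      exact fun t e => hc t e.symm
    have hspan : ∀ x, ∃ s t : F, x = s • c + t • d := by
      intro x
      have htop : Submodule.span F (Set.range ![c, d]) = ⊤ :=
        hli.span_eq_top_of_card_eq_finrank (by simp [h2])
      have hx : x ∈ Submodule.span F (Set.range ![c, d]) := htop ▸ Submodule.mem_top
      obtain ⟨s, hs⟩ := (Submodule.mem_span_range_iff_exists_fun F).1 hx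
      exact ⟨s 0, s 1, by rw [← hs, Fin.sum_univ_two]; rfl⟩
    refine Matrix.toLin'.injective (LinearMap.ext fun x => ?_)
    obtain ⟨s, t, rfl⟩ := hspan x
    rw [Matrix.toLin'_apply, Matrix.toLin'_apply, Matrix.one_mulVec]
    simp only [J, Matrix.add_mulVec, Matrix.vecMulVec_mulVec, dotProduct_add, dotProduct_smul,
      hhc, hhd, hfc, hfφ, smul_eq_mul, op_smul_eq_smul]
    simp
  refine eq_top_iff.2 fun M _ => ?_
  have e : M = J * M * J := by rw [hJ, one_mul, mul_one]
  rw [e]
  simp only [J, add_mul, mul_add, vecMulVec_mul_mul]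
  exact C.add_mem (C.add_mem (C.smul_mem hch _) (C.smul_mem hdh _))
    (C.add_mem (C.smul_mem hE _) (C.smul_mem hdf _))

/-- The dichotomy. -/
theorem eq_top_of_conjClosed [Fintype F] (hC : ConjClosed C) (hm : 2 ≤ m)
    (hex : m = 2 → 3 ≤ Fintype.card F) {φ : A} (hφ : φ ∈ C) (hns : ∀ t : F, φ ≠ t • 1) : C = ⊤ := by
  obtain ⟨c, hc⟩ := exists_moved_line hns
  rcases hm.eq_or_lt with h | h
  · exact top_two hC (hex h.symm) h.symm hφ hc
  · have hcne : c ≠ 0 := fun e => hc 0 (by rw [e, Matrix.mulVec_zero, smul_zero])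
    obtain ⟨f, hf, hfc, hE⟩ := exists_rankOne hC h hφ hc
    refine eq_top_iff.2 fun M _ => ?_
    rw [Matrix.matrix_eq_sum_single M]
    refine C.sum_mem fun i _ => C.sum_mem fun j _ => ?_
    have e : Matrix.single i j (M i j) = vecMulVec (Pi.single i (M i j)) (Pi.single j 1) := by
      ext a b
      simp [vecMulVec_apply, Matrix.single_apply, Pi.single_apply, ite_and, eq_comm]
      split_ifs <;> rfl
    exact e ▸ rankOne_mem hC h hcne hf hfc hE _ _

end Cfsg.Lib.Linear.TensorLine
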