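import Cfsg.Agent.Lib.Linear.ExtField.Basic
import Cfsg.Agent.Lib.Linear.TensorLine.Alg

/-!
# Groups containing both factors of a tensor decomposition

Matrices are tensors, the two factors act by multiplication on the left and on the right.
-/

set_option autoImplicit false

namespace Cfsg.Lib.Linear.TensorLine

open Matrix Module
open Cfsg.Lib.Linear.ExtField (InG)
open Cfsg.Lib.Linear.Rat0 (exists_dot_pair exists_perp_pair exists_perp_notMem)

variable {F : Type*} [Field F] {m k : ℕ}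

local notation "V" => Matrix (Fin m) (Fin k) F

/-- The map `M ↦ (φ (M μ)) ⊗ u`. -/
def lin (u μ : Fin k → F) (φ : Matrix (Fin m) (Fin m) F) : V →ₗ[F] V where
  toFun M := φ * M * vecMulVec μ u
  map_add' M N := by rw [Matrix.mul_add, Matrix.add_mul]
  map_smul' c M := by rw [Matrix.mul_smul, Matrix.smul_mul, RingHom.id_apply]

@[simp] theorem lin_apply (u μ : Fin k → F) (φ : Matrix (Fin m) (Fin m) F) (M : V) :
    lin u μ φ M = φ * M * vecMulVec μ u := rfl

theorem lin_apply' (u μ : Fin k → F) (φ : Matrix (Fin m) (Fin m) F) (M : V) :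
    lin u μ φ M = vecMulVec (φ *ᵥ (M *ᵥ μ)) u := by
  rw [lin_apply, Matrix.mul_vecMulVec, Matrix.mulVec_mulVec]

theorem lin_lin (u μ v ν : Fin k → F) (φ ψ : Matrix (Fin m) (Fin m) F) (M : V) :
    lin u μ φ (lin v ν ψ M) = (v ⬝ᵥ μ) • lin u ν (φ * ψ) M := by
  simp only [lin_apply, Matrix.mul_assoc, Matrix.vecMulVec_mul_vecMulVec, Matrix.vecMulVec_smul,
    Matrix.mul_smul]

/-- The group contains both factors and does not stabilise the decomposition. -/
structure OverT (G : Subgroup (Matrix (Fin m) (Fin k) F ≃ₗ[F] Matrix (Fin m) (Fin k) F)) : Prop where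
  left : ∀ p : Matrix (Fin m) (Fin m) F, p.det = 1 → ∃ g ∈ G, ∀ M, g M = p * M
  right : ∀ q : Matrix (Fin k) (Fin k) F, q.det = 1 → ∃ g ∈ G, ∀ M, g M = M * q

/-- The line of a vector of the right factor. -/
def rline (b : Fin k → F) : Submodule F (Matrix (Fin m) (Fin k) F) where
  carrier := {M | ∃ a, M = vecMulVec a b}
  zero_mem' := ⟨0, by simp⟩
  add_mem' := by
    rintro _ _ ⟨a, rfl⟩ ⟨a', rfl⟩
    exact ⟨a + a', (Matrix.add_vecMulVec _ _ _).symm⟩
  smul_mem' := by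
    rintro c _ ⟨a, rfl⟩
    exact ⟨c • a, (Matrix.smul_vecMulVec _ _ _).symm⟩

theorem mem_rline {b : Fin k → F} {M : V} : M ∈ rline b ↔ ∃ a, M = vecMulVec a b := Iff.rfl

theorem vecMulVec_left_injective {b : Fin k → F} (hb : b ≠ 0) :
    Function.Injective (fun a : Fin m → F => vecMulVec a b) := by
  intro a a' h
  obtain ⟨j, hj⟩ := Function.ne_iff.1 hb
  funext i
  exact mul_right_cancel₀ hj (congrFun (congrFun h i) j)

theorem finrank_rline {b : Fin k → F} (hb : b ≠ 0) : finrank F (rline (m := m) b) = m := by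
  let T : (Fin m → F) →ₗ[F] V :=
    { toFun := fun a => vecMulVec a b
      map_add' := fun a a' => Matrix.add_vecMulVec a a' b
      map_smul' := fun c a => Matrix.smul_vecMulVec c a b }
  have he : LinearMap.range T = rline b := by
    ext M
    exact ⟨fun ⟨a, ha⟩ => ⟨a, ha.symm⟩, fun ⟨a, ha⟩ => ⟨a, ha.symm⟩⟩
  rw [← he, LinearMap.finrank_range_of_inj (vecMulVec_left_injective hb), finrank_fin_fun]

theorem rline_mulVec {b μ : Fin k → F} (h : b ⬝ᵥ μ = 0) {M : V} (hM : M ∈ rline b) : M *ᵥ μ = 0 := by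
  obtain ⟨a, rfl⟩ := hM
  rw [Matrix.vecMulVec_mulVec, h]
  simp

theorem rline_eq_of_common {b b' : Fin k → F} {M : V} (hM : M ≠ 0) (h : M ∈ rline b)
    (h' : M ∈ rline b') : rline (m := m) b = rline b' := by
  obtain ⟨a, rfl⟩ := h
  obtain ⟨a', e⟩ := h'
  obtain ⟨i, hi⟩ : ∃ i, a i ≠ 0 := by
    by_contra hc
    push Not at hc
    exact hM (Matrix.ext fun i j => by simp [vecMulVec_apply, hc i])
  have hai' : a' i ≠ 0 := by
    intro h0
    refine hM (Matrix.ext fun p j => ?_)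
    have h1 := congrFun (congrFun e i) j
    simp [vecMulVec_apply, h0, hi] at h1
    simp [vecMulVec_apply, h1]
  have hb : b = (a' i / a i) • b' := funext fun j => by
    have h1 := congrFun (congrFun e i) j
    simp only [vecMulVec_apply] at h1
    rw [Pi.smul_apply, smul_eq_mul, div_mul_eq_mul_div, eq_div_iff hi, mul_comm]
    exact h1
  ext N
  constructor
  · rintro ⟨c, rfl⟩
    exact ⟨(a' i / a i) • c, by rw [hb, Matrix.vecMulVec_smul, Matrix.smul_vecMulVec]⟩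
  · rintro ⟨c, rfl⟩
    refine ⟨(a i / a' i) • c, ?_⟩
    rw [hb, Matrix.vecMulVec_smul, Matrix.smul_vecMulVec, smul_smul]
    have : a' i / a i * (a i / a' i) = 1 := by field_simp
    rw [this, one_smul]

variable {G : Subgroup (Matrix (Fin m) (Fin k) F ≃ₗ[F] Matrix (Fin m) (Fin k) F)}

variable (G) in
/-- The coefficient `φ` is available at the pair `(u, μ)`. -/
def InC (u μ : Fin k → F) (φ : Matrix (Fin m) (Fin m) F) : Prop := InG G (lin u μ φ)

variable (G) in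
/-- The coefficient is available at every pair. -/
def Good (φ : Matrix (Fin m) (Fin m) F) : Prop :=
  ∀ u μ : Fin k → F, u ≠ 0 → μ ≠ 0 → u ⬝ᵥ μ = 0 → InC G u μ φ

theorem lin_sq {u μ : Fin k → F} (h : u ⬝ᵥ μ = 0) (φ ψ : Matrix (Fin m) (Fin m) F) (M : V) :
    lin u μ φ (lin u μ ψ M) = 0 := by
  rw [lin_lin, h, zero_smul]

theorem InC.scalar (hG : OverT G) {u μ : Fin k → F} (h : u ⬝ᵥ μ = 0) (c : F) :
    InC G u μ (c • 1) := by
  obtain ⟨g, hg, hgM⟩ := hG.right (1 + vecMulVec (c • μ) u) (by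
    rw [← tvMat, det_tvMat, dotProduct_smul, h, smul_zero, add_zero])
  refine ⟨g, hg, fun M => ?_⟩
  rw [hgM, Matrix.mul_add, Matrix.mul_one, lin_apply, Matrix.smul_mul, Matrix.one_mul,
    Matrix.smul_vecMulVec, Matrix.mul_smul, Matrix.smul_mul]

theorem InC.one (hG : OverT G) {u μ : Fin k → F} (h : u ⬝ᵥ μ = 0) : InC G u μ 1 := by
  simpa using InC.scalar hG h 1

theorem InC.comp {u μ v ν : Fin k → F} {φ ψ : Matrix (Fin m) (Fin m) F} (huμ : u ⬝ᵥ μ = 0)
    (hvν : v ⬝ᵥ ν = 0) (huν : u ⬝ᵥ ν = 0) (hvμ : v ⬝ᵥ μ = 1) (h : InC G u μ φ) (h' : InC G v ν ψ) :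
    InC G u ν (φ * ψ) :=
  InG.comm h h' (lin_sq huμ φ φ) (lin_sq hvν ψ ψ) (fun M => by rw [lin_lin, huν, zero_smul])
    fun M => by rw [lin_lin, hvμ, one_smul]

theorem InC.moveR (hG : OverT G) {u μ ν : Fin k → F} {φ : Matrix (Fin m) (Fin m) F}
    (huμ : u ⬝ᵥ μ = 0) (huν : u ⬝ᵥ ν = 0) (hne : ∀ c : F, μ ≠ c • ν) (h : InC G u μ φ) :
    InC G u ν φ := by
  obtain ⟨v, hν, hμ⟩ := exists_dot_pair hne
  rw [dotProduct_comm] at hν hμ
  simpa using InC.comp huμ hν huν hμ h (InC.one hG hν)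

theorem InC.moveL (hG : OverT G) {u v ν : Fin k → F} {φ : Matrix (Fin m) (Fin m) F}
    (hvν : v ⬝ᵥ ν = 0) (huν : u ⬝ᵥ ν = 0) (hne : ∀ c : F, v ≠ c • u) (h : InC G v ν φ) :
    InC G u ν φ := by
  obtain ⟨μ, hu, hv⟩ := exists_dot_pair hne
  simpa using InC.comp hu hvν huν hv (InC.one hG hu) h

theorem not_smul {x y : Fin k → F} (hx : x ≠ 0) (h : ∀ c : F, y ≠ c • x) : ∀ c : F, x ≠ c • y := by
  intro c e
  rcases eq_or_ne c 0 with rfl | hc
  · exact hx (by rw [e, zero_smul])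
  · exact h c⁻¹ (by rw [e, smul_smul, inv_mul_cancel₀ hc, one_smul])

theorem InC.moveR' (hG : OverT G) (hk : 3 ≤ k) {u μ ν : Fin k → F}
    {φ : Matrix (Fin m) (Fin m) F} (huμ : u ⬝ᵥ μ = 0) (huν : u ⬝ᵥ ν = 0) (hμ : μ ≠ 0)
    (h : InC G u μ φ) : InC G u ν φ := by
  by_cases hne : ∀ c : F, μ ≠ c • ν
  · exact h.moveR hG huμ huν hne
  push Not at hne
  obtain ⟨c, hc⟩ := hne
  obtain ⟨ρ, hρu, hρ, hρν⟩ := exists_perp_notMem (by simpa using hk) u ν
  rw [dotProduct_comm] at hρu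
  have hρμ : ∀ t : F, ρ ≠ t • μ := fun t e => hρν (t * c) (by rw [e, hc, smul_smul])
  exact (h.moveR hG huμ hρu (not_smul hμ hρμ)).moveR hG hρu huν hρν

theorem InC.moveL' (hG : OverT G) (hk : 3 ≤ k) {u v ν : Fin k → F}
    {φ : Matrix (Fin m) (Fin m) F} (hvν : v ⬝ᵥ ν = 0) (huν : u ⬝ᵥ ν = 0) (hv : v ≠ 0)
    (h : InC G v ν φ) : InC G u ν φ := by
  by_cases hne : ∀ c : F, v ≠ c • u
  · exact h.moveL hG hvν huν hne
  push Not at hne
  obtain ⟨c, hc⟩ := hne
  obtain ⟨w, hwν, hw, hwu⟩ := exists_perp_notMem (by simpa using hk) ν u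
  have hwv : ∀ t : F, w ≠ t • v := fun t e => hwu (t * c) (by rw [e, hc, smul_smul])
  exact (h.moveL hG hvν hwν (not_smul hv hwv)).moveL hG hwν huν hwu

theorem InC.good (hG : OverT G) (hk : 3 ≤ k) {u μ : Fin k → F} {φ : Matrix (Fin m) (Fin m) F}
    (hu : u ≠ 0) (hμ : μ ≠ 0) (huμ : u ⬝ᵥ μ = 0) (h : InC G u μ φ) : Good G φ := by
  intro u' μ' hu' hμ' huμ'
  obtain ⟨ρ, hρ, h1, h2⟩ := exists_perp_pair (by simpa using hk) u u'
  exact ((h.moveR' hG hk huμ h1 hμ).moveL' hG hk h1 h2 hu).moveR' hG hk h2 huμ' hρ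

theorem Good.mul (hG : OverT G) (hk : 3 ≤ k) {φ ψ : Matrix (Fin m) (Fin m) F} (h : Good G φ)
    (h' : Good G ψ) : Good G (φ * ψ) := by
  intro u ν hu hν huν
  obtain ⟨μ, hμu, hμ, hμν⟩ := exists_perp_notMem (by simpa using hk) u ν
  rw [dotProduct_comm] at hμu
  obtain ⟨v, hvν, hvμ⟩ := exists_dot_pair hμν
  rw [dotProduct_comm] at hvν hvμ
  have hv : v ≠ 0 := fun e => by simp [e] at hvμ
  exact InC.comp hμu hvν huν hvμ (h u μ hu hμ hμu) (h' v ν hv hν hvν)

/-- The coefficients available everywhere. -/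
def goodAlg (hG : OverT G) (hk : 3 ≤ k) : Subalgebra F (Matrix (Fin m) (Fin m) F) where
  carrier := {φ | Good G φ}
  mul_mem' h h' := Good.mul hG hk h h'
  one_mem' u μ _ _ h := InC.one hG h
  add_mem' ha hb u μ hu hμ h :=
    (InG.add (ha u μ hu hμ h) (hb u μ hu hμ h) (lin_sq h _ _)).congr fun M => by
      simp [Matrix.add_mul]
  zero_mem' u μ _ _ _ := InG.zero.congr fun M => by simp
  algebraMap_mem' c u μ _ _ h := by
    rw [Algebra.algebraMap_eq_smul_one]
    exact InC.scalar hG h c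

theorem goodAlg_conjClosed (hG : OverT G) (hk : 3 ≤ k) : ConjClosed (goodAlg hG hk) := by
  intro x y hyx φ hφ u μ hu hμ huμ
  obtain ⟨g, hg, hgM⟩ := hG.left (1 + vecMulVec x y) (by rw [← tvMat, det_tvMat, hyx, add_zero])
  refine InG.conj (hφ u μ hu hμ huμ) hg fun M => ?_
  have e : (1 - vecMulVec x y) * (1 + vecMulVec x y) = (1 : Matrix (Fin m) (Fin m) F) := by
    simp only [mul_add, mul_one, sub_mul, one_mul, vecMulVec_mul', hyx, zero_smul, sub_zero]
    abel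
  rw [lin_apply, lin_apply, hgM, hgM, Matrix.mul_assoc ((1 + vecMulVec x y) * φ),
    ← Matrix.mul_assoc (1 - vecMulVec x y), e, Matrix.one_mul]
  simp only [Matrix.mul_assoc]

variable (G) in
/-- A coefficient which is not a scalar is available. -/
def Rich : Prop := ∃ φ, Good G φ ∧ ∀ t : F, φ ≠ t • 1

theorem exists_perp_ne_zero (hk : 3 ≤ k) (x y : Fin k → F) :
    ∃ ν : Fin k → F, ν ≠ 0 ∧ x ⬝ᵥ ν = 0 ∧ y ⬝ᵥ ν = 0 := exists_perp_pair (by simpa using hk) x y

/-- Extraction from an element with centre in a line, trivial on the line. -/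
theorem rad_scalar (hG : OverT G) (hk : 3 ≤ k) (hR : ¬ Rich G) {b : Fin k → F} (hb : b ≠ 0)
    (Φ : V →ₗ[F] (Fin m → F)) (hΦ : ∀ a, Φ (vecMulVec a b) = 0) (a₀ : V →ₗ[F] V)
    (ha₀ : ∀ M, a₀ M = vecMulVec (Φ M) b) (h : InG G a₀) :
    ∃ ν : Fin k → F, ∀ M, Φ M = M *ᵥ ν := by
  classical
  let T : (Fin k → F) → Matrix (Fin m) (Fin m) F := fun v => LinearMap.toMatrix'
    { toFun := fun a => Φ (vecMulVec a v)
      map_add' := fun a a' => by rw [Matrix.add_vecMulVec, map_add]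
      map_smul' := fun c a => by rw [Matrix.smul_vecMulVec, map_smul, RingHom.id_apply] }
  have hT : ∀ v a, T v *ᵥ a = Φ (vecMulVec a v) := fun v a => by
    rw [← Matrix.toLin'_apply, Matrix.toLin'_toMatrix']
    rfl
  have hgood : ∀ v, Good G (T v) := by
    intro v
    obtain ⟨ν, hν, hbν, hvν⟩ := exists_perp_ne_zero hk b v
    refine InC.good hG hk hb hν hbν (InG.comm h (InC.one hG hvν) (fun M => ?_)
      (lin_sq hvν 1 1) (fun M => ?_) fun M => ?_)
    · rw [ha₀, ha₀, hΦ]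
      simp
    · rw [lin_apply, Matrix.one_mul, ha₀, Matrix.vecMulVec_mul_vecMulVec, hbν]
      ext i j
      simp [vecMulVec_apply]
    · rw [lin_apply', lin_apply', Matrix.one_mulVec, ha₀, hT]
  have hsc : ∀ v, ∃ t : F, T v = t • 1 := fun v => by
    by_contra hc
    push Not at hc
    exact hR ⟨T v, hgood v, hc⟩
  choose ν hν using fun j => hsc (Pi.single j 1)
  refine ⟨ν, fun M => ?_⟩
  have e : M = ∑ j, vecMulVec (fun i => M i j) (Pi.single j 1) := by
    ext i j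
    simp [Matrix.sum_apply, vecMulVec_apply, Pi.single_apply]
  conv_lhs => rw [e, map_sum]
  funext i
  rw [Finset.sum_apply]
  simp only [← hT, hν, Matrix.smul_mulVec, Matrix.one_mulVec, Pi.smul_apply, smul_eq_mul]
  simp [Matrix.mulVec, dotProduct, mul_comm]

end Cfsg.Lib.Linear.TensorLine
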