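import Cfsg.Agent.Lib.Linear.TensorLine.Basic

/-!
# Lines moved by an overgroup of a tensor stabiliser

An image of a line of the right factor which is not a line leads to a non-scalar coefficient:
otherwise one finds moved lines meeting lines in ever larger subspaces.
-/

set_option autoImplicit false

namespace Cfsg.Lib.Linear.TensorLine

open Matrix Module
open Cfsg.Lib.Linear.ExtField (InG)
open Cfsg.Lib.Linear.Rat0 (exists_dot_pair exists_perp_pair exists_perp_notMem)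

variable {F : Type*} [Field F] {m k : ℕ}
  {G : Subgroup (Matrix (Fin m) (Fin k) F ≃ₗ[F] Matrix (Fin m) (Fin k) F)}

local notation "V" => Matrix (Fin m) (Fin k) F

variable (G) in
/-- An image of a line which is not a line. -/
def Moved (W : Submodule F V) : Prop :=
  (∃ g ∈ G, ∃ v : Fin k → F, v ≠ 0 ∧ W = (rline (m := m) v).map (g : V →ₗ[F] V)) ∧
    ∀ b : Fin k → F, b ≠ 0 → W ≠ rline b

theorem Moved.finrank_eq {W : Submodule F V} (h : Moved G W) : finrank F W = m := by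
  obtain ⟨⟨g, -, v, hv, rfl⟩, -⟩ := h
  rw [LinearEquiv.finrank_map_eq, finrank_rline hv]

theorem Moved.not_le {W : Submodule F V} (h : Moved G W) {b : Fin k → F} (hb : b ≠ 0) :
    ¬ W ≤ rline b := fun hle =>
  h.2 b hb (Submodule.eq_of_le_of_finrank_eq hle (by rw [h.finrank_eq, finrank_rline hb]))

theorem mem_span_of_perp {b v : Fin k → F} (hb : b ≠ 0) (h : ∀ ν : Fin k → F, b ⬝ᵥ ν = 0 → v ⬝ᵥ ν = 0) :
    ∃ c : F, v = c • b := by
  obtain ⟨d, -, hd⟩ := exists_dot_pair (x := (0 : Fin k → F)) (y := b) (by simpa using hb)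
  refine ⟨v ⬝ᵥ d, funext fun j => ?_⟩
  have := h (Pi.single j 1 - b j • d) (by
    rw [dotProduct_sub, dotProduct_smul, hd, dotProduct_single]
    simp)
  rw [dotProduct_sub, dotProduct_smul, dotProduct_single, mul_one, sub_eq_zero] at this
  rw [this, Pi.smul_apply, smul_eq_mul, smul_eq_mul, mul_comm]

theorem mem_rline_of_perp {b : Fin k → F} (hb : b ≠ 0) {M : V}
    (h : ∀ ν : Fin k → F, b ⬝ᵥ ν = 0 → M *ᵥ ν = 0) : M ∈ rline b := by
  choose c hc using fun i => mem_span_of_perp (v := M i) hb fun ν hν => congrFun (h ν hν) i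
  exact ⟨c, Matrix.ext fun i j => by rw [hc i]; rfl⟩

theorem vecMulVec_zero' (a : Fin m → F) : vecMulVec a (0 : Fin k → F) = 0 := by
  ext i j
  simp [vecMulVec_apply]

theorem vecMulVec_mulVec' (a : Fin m → F) (v ν : Fin k → F) :
    vecMulVec a v *ᵥ ν = (v ⬝ᵥ ν) • a := by
  rw [Matrix.vecMulVec_mulVec, op_smul_eq_smul]

/-- The conjugate of a translation. -/
theorem exists_transl (hG : OverT G) {g : V ≃ₗ[F] V} (hg : g ∈ G) {v μ : Fin k → F}
    (hvμ : v ⬝ᵥ μ = 0) :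
    ∃ X : V →ₗ[F] V, InG G X ∧ (∀ M, X (g M) = g (vecMulVec (M *ᵥ μ) v)) := by
  refine ⟨(g : V →ₗ[F] V) ∘ₗ lin v μ 1 ∘ₗ (g.symm : V →ₗ[F] V),
    InG.conj (InC.one hG hvμ) hg fun M => by simp, fun M => ?_⟩
  simp only [LinearMap.comp_apply, LinearEquiv.coe_coe, LinearEquiv.symm_apply_apply, lin_apply',
    Matrix.one_mulVec]

/-- A quadratic element whose image is a moved line. -/
structure Quad (G : Subgroup (Matrix (Fin m) (Fin k) F ≃ₗ[F] Matrix (Fin m) (Fin k) F))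
    (X : Matrix (Fin m) (Fin k) F →ₗ[F] Matrix (Fin m) (Fin k) F)
    (W : Submodule F (Matrix (Fin m) (Fin k) F)) : Prop where
  mem : InG G X
  moved : Moved G W
  range : LinearMap.range X = W
  sq : ∀ M, X (X M) = 0

theorem quad_of_transl {g : V ≃ₗ[F] V} {v μ : Fin k → F} (hμ : μ ≠ 0) (hvμ : v ⬝ᵥ μ = 0)
    {X : V →ₗ[F] V} (hX : InG G X) (he : ∀ M, X (g M) = g (vecMulVec (M *ᵥ μ) v))
    (hmov : Moved G ((rline (m := m) v).map (g : V →ₗ[F] V))) :
    Quad G X ((rline (m := m) v).map (g : V →ₗ[F] V)) := by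
  refine ⟨hX, hmov, le_antisymm ?_ ?_, fun M => ?_⟩
  · rintro _ ⟨M, rfl⟩
    rw [← g.apply_symm_apply M, he]
    exact ⟨_, ⟨_, rfl⟩, rfl⟩
  · rintro _ ⟨_, ⟨a, rfl⟩, rfl⟩
    obtain ⟨w, -, hw⟩ := exists_dot_pair (x := (0 : Fin k → F)) (y := μ) (by simpa using hμ)
    refine ⟨g (vecMulVec a w), ?_⟩
    rw [he, vecMulVec_mulVec', dotProduct_comm, hw, one_smul]
    rfl
  · rw [← g.apply_symm_apply M, he, he, vecMulVec_mulVec', hvμ, zero_smul]
    simp

/-- Extraction on the right. -/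
theorem right_scalar (hG : OverT G) (hk : 3 ≤ k) (hR : ¬ Rich G) {μ : Fin k → F} (hμ : μ ≠ 0)
    {c : V →ₗ[F] V} (hc : InG G c) (ψ : (Fin m → F) →ₗ[F] V) (he : ∀ M, c M = ψ (M *ᵥ μ))
    (hψ : ∀ a, ψ a *ᵥ μ = 0) : ∃ w : Fin k → F, ∀ a, ψ a = vecMulVec a w := by
  classical
  have key : ∀ ν : Fin k → F, ∃ t : F, ∀ a, ψ a *ᵥ ν = t • a := by
    intro ν
    obtain ⟨u, hu, hμu, hνu⟩ := exists_perp_ne_zero hk μ ν
    rw [dotProduct_comm] at hμu hνu
    set φ := LinearMap.toMatrix'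
      ({ toFun := fun a => ψ a *ᵥ ν
         map_add' := fun a b => by rw [map_add, Matrix.add_mulVec]
         map_smul' := fun t a => by rw [map_smul, Matrix.smul_mulVec, RingHom.id_apply] } :
        (Fin m → F) →ₗ[F] (Fin m → F))
    have hφ : ∀ a, φ *ᵥ a = ψ a *ᵥ ν := fun a => by
      rw [← Matrix.toLin'_apply, Matrix.toLin'_toMatrix']
      rfl
    have hgood : Good G φ := InC.good hG hk hu hμ hμu (InG.comm (InC.one hG hνu) hc (lin_sq hνu 1 1)
      (fun M => by rw [he, he, hψ, map_zero])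
      (fun M => by rw [he, lin_apply', vecMulVec_mulVec', hμu, zero_smul, map_zero])
      fun M => by rw [lin_apply', lin_apply', Matrix.one_mulVec, he, hφ])
    by_contra hcon
    push Not at hcon
    refine hR ⟨φ, hgood, fun t e => ?_⟩
    obtain ⟨a, ha⟩ := hcon t
    exact ha (by rw [← hφ, e, Matrix.smul_mulVec, Matrix.one_mulVec])
  choose w hw using fun j => key (Pi.single j 1)
  refine ⟨w, fun a => Matrix.ext fun i j => ?_⟩
  have := congrFun (hw j a) i
  simp only [Matrix.mulVec_single, Pi.smul_apply, smul_eq_mul] at this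
  simpa [vecMulVec_apply, mul_comm] using this

/-- A moved image inside a hyperplane of lines. -/
theorem not_hyperplane (hG : OverT G) (hk : 3 ≤ k) (hR : ¬ Rich G) {X : V →ₗ[F] V}
    {W : Submodule F V} (hX : Quad G X W) {μ : Fin k → F} (hμ : μ ≠ 0) : ¬ ∀ M ∈ W, M *ᵥ μ = 0 := by
  intro hW
  have hWX : ∀ M, X M *ᵥ μ = 0 := fun M => hW _ (hX.range ▸ LinearMap.mem_range_self X M)
  let T : (Fin k → F) → (Fin m → F) →ₗ[F] V := fun v =>
    { toFun := fun a => X (vecMulVec a v)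
      map_add' := fun a b => by rw [Matrix.add_vecMulVec, map_add]
      map_smul' := fun t a => by rw [Matrix.smul_vecMulVec, map_smul, RingHom.id_apply] }
  have hkill : ∀ v, v ⬝ᵥ μ = 0 → ∀ a, X (vecMulVec a v) = 0 := by
    intro v hv
    have hc : InG G (X ∘ₗ lin v μ 1) := InG.comm hX.mem (InC.one hG hv) hX.sq (lin_sq hv 1 1)
      (fun M => by rw [lin_apply', hWX]; simp) fun M => rfl
    obtain ⟨w, hw⟩ := right_scalar hG hk hR hμ hc (T v)
      (fun M => by simp only [LinearMap.comp_apply, lin_apply', Matrix.one_mulVec]; rfl)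
      fun a => hWX _
    intro a
    by_contra hne
    have hw0 : w ≠ 0 := fun e => hne (by
      rw [show X (vecMulVec a v) = T v a from rfl, hw, e, vecMulVec_zero'])
    have hle : rline (m := m) w ≤ W := by
      rintro _ ⟨b, rfl⟩
      rw [← hw b, ← hX.range]
      exact LinearMap.mem_range_self X _
    exact hX.moved.2 w hw0 (Submodule.eq_of_le_of_finrank_eq hle
      (by rw [finrank_rline hw0, hX.moved.finrank_eq])).symm
  obtain ⟨v₁, -, hv₁⟩ := exists_dot_pair (x := (0 : Fin k → F)) (y := μ) (by simpa using hμ)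
  rw [dotProduct_comm] at hv₁
  have hform : ∀ M, X M = T v₁ (M *ᵥ μ) := by
    intro M
    have e : M = ∑ j, vecMulVec (fun i => M i j) (Pi.single j 1) := by
      ext i j
      simp [Matrix.sum_apply, vecMulVec_apply, Pi.single_apply]
    have e2 : M *ᵥ μ = ∑ j, μ j • fun i => M i j := by
      funext i
      simp [Matrix.mulVec, dotProduct, mul_comm]
    conv_lhs => rw [e, map_sum]
    rw [e2, map_sum]
    refine Finset.sum_congr rfl fun j _ => ?_
    have h1 := hkill (Pi.single j 1 - μ j • v₁) (by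
      rw [sub_dotProduct, smul_dotProduct, hv₁, single_dotProduct]
      simp) (fun i => M i j)
    rw [Matrix.vecMulVec_sub, map_sub, Matrix.vecMulVec_smul, map_smul, sub_eq_zero] at h1
    rw [map_smul, h1]
    rfl
  obtain ⟨w, hw⟩ := right_scalar hG hk hR hμ hX.mem (T v₁) hform fun a => hWX _
  rcases eq_or_ne w 0 with hw0 | hw0
  · obtain ⟨b, hb⟩ : ∃ b : Fin k → F, b ≠ 0 := ⟨μ, hμ⟩
    refine hX.moved.not_le hb fun M hM => ?_
    rw [← hX.range] at hM
    obtain ⟨N, rfl⟩ := hM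
    rw [hform, hw, hw0, vecMulVec_zero']
    exact Submodule.zero_mem _
  · refine hX.moved.not_le hw0 fun M hM => ?_
    rw [← hX.range] at hM
    obtain ⟨N, rfl⟩ := hM
    rw [hform, hw]
    exact ⟨_, rfl⟩

theorem quad_mulVec_surj {X : V →ₗ[F] V} {W : Submodule F V} (hX : Quad G X W) (ν : Fin k → F)
    (hs : ∀ a : Fin m → F, ∃ M, X M *ᵥ ν = a) {M : V} (hM : M ∈ W) (h : M *ᵥ ν = 0) : M = 0 := by
  let T : W →ₗ[F] (Fin m → F) :=
    { toFun := fun w => (w : V) *ᵥ ν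
      map_add' := fun a b => Matrix.add_mulVec _ _ _
      map_smul' := fun c a => Matrix.smul_mulVec c (a : V) ν }
  have hT : Function.Surjective T := fun a => by
    obtain ⟨N, hN⟩ := hs a
    exact ⟨⟨X N, hX.range ▸ LinearMap.mem_range_self X N⟩, hN⟩
  have hi : Function.Injective T := (LinearMap.injective_iff_surjective_of_finrank_eq_finrank
    (by rw [hX.moved.finrank_eq, finrank_fin_fun])).2 hT
  exact congrArg Subtype.val (hi (a₁ := ⟨M, hM⟩) (a₂ := 0) (by simpa [T] using h))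

/-- A quadratic element killing a line. -/
theorem not_kill (hG : OverT G) (hk : 3 ≤ k) (hR : ¬ Rich G) {X : V →ₗ[F] V} {W : Submodule F V}
    (hX : Quad G X W) {b : Fin k → F} (hb : b ≠ 0) : ¬ ∀ a, X (vecMulVec a b) = 0 := by
  intro hker
  have key : ∀ ν : Fin k → F, b ⬝ᵥ ν = 0 → ∃ ν' : Fin k → F, ∀ M, X M *ᵥ ν = M *ᵥ ν' := by
    intro ν hν
    exact rad_scalar hG hk hR hb
      ({ toFun := fun M => X M *ᵥ ν
         map_add' := fun M N => by rw [map_add, Matrix.add_mulVec]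
         map_smul' := fun t M => by rw [map_smul, Matrix.smul_mulVec, RingHom.id_apply] })
      (fun a => by simp [hker]) (lin b ν 1 ∘ₗ X)
      (fun M => by simp only [LinearMap.comp_apply, lin_apply', Matrix.one_mulVec]; rfl)
      (InG.comm (InC.one hG hν) hX.mem (lin_sq hν 1 1) hX.sq
        (fun M => by rw [lin_apply', hker]) fun M => rfl)
  choose T hT using key
  by_cases hall : ∀ ν hν, T ν hν = 0
  · refine hX.moved.not_le hb fun M hM => mem_rline_of_perp hb fun ν hν => ?_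
    rw [← hX.range] at hM
    obtain ⟨N, rfl⟩ := hM
    rw [hT ν hν, hall, Matrix.mulVec_zero]
  push Not at hall
  obtain ⟨ν₁, hν₁, hT₁⟩ := hall
  obtain ⟨ν₂, hν₂, -, hν₂₁⟩ := exists_perp_notMem (by simpa using hk) b ν₁
  rw [dotProduct_comm] at hν₂
  have hsurj : ∀ a : Fin m → F, ∃ M, X M *ᵥ ν₁ = a := by
    intro a
    obtain ⟨z, -, hz⟩ := exists_dot_pair (x := (0 : Fin k → F)) (y := T ν₁ hν₁) (by simpa using hT₁)
    exact ⟨vecMulVec a z, by rw [hT ν₁ hν₁, vecMulVec_mulVec', dotProduct_comm, hz, one_smul]⟩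
  obtain ⟨c, hc⟩ : ∃ c : F, T ν₂ hν₂ = c • T ν₁ hν₁ := by
    by_contra hcon
    push Not at hcon
    obtain ⟨z, h1, h2⟩ := exists_dot_pair hcon
    rcases Nat.eq_zero_or_pos m with hm | hm
    · subst hm
      exact hX.moved.not_le hb fun M _ => ⟨0, Matrix.ext fun i => i.elim0⟩
    let a : Fin m → F := Pi.single ⟨0, hm⟩ 1
    have h3 : X (vecMulVec a z) = 0 := quad_mulVec_surj hX ν₁ hsurj
      (hX.range ▸ LinearMap.mem_range_self X _)
      (by rw [hT ν₁ hν₁, vecMulVec_mulVec', dotProduct_comm, h1, zero_smul])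
    have h4 := hT ν₂ hν₂ (vecMulVec a z)
    rw [h3, Matrix.zero_mulVec, vecMulVec_mulVec', dotProduct_comm, h2, one_smul] at h4
    simpa [a] using congrFun h4 ⟨0, hm⟩
  refine not_hyperplane hG hk hR hX (μ := ν₂ - c • ν₁) (sub_ne_zero.2 (hν₂₁ c)) fun M hM => ?_
  rw [← hX.range] at hM
  obtain ⟨N, rfl⟩ := hM
  rw [Matrix.mulVec_sub, Matrix.mulVec_smul, hT ν₁ hν₁, hT ν₂ hν₂, hc, Matrix.mulVec_smul, sub_self]

/-- A quadratic element fixing a line setwise. -/
theorem not_fix (hG : OverT G) (hk : 3 ≤ k) (hmk : m < k) (hR : ¬ Rich G) {X : V →ₗ[F] V}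
    {W : Submodule F V} (hX : Quad G X W) {b : Fin k → F} (hb : b ≠ 0) :
    ¬ ∀ a, X (vecMulVec a b) ∈ rline b := by
  intro hfix
  obtain ⟨a₀, ha₀⟩ : ∃ a, X (vecMulVec a b) ≠ 0 := by
    by_contra h
    push Not at h
    exact not_kill hG hk hR hX hb h
  obtain ⟨d, -, hd⟩ := exists_dot_pair (x := (0 : Fin k → F)) (y := b) (by simpa using hb)
  let N₀ : (Fin m → F) →ₗ[F] (Fin m → F) :=
    { toFun := fun z => X (vecMulVec z b) *ᵥ d
      map_add' := fun a c => by rw [Matrix.add_vecMulVec, map_add, Matrix.add_mulVec]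
      map_smul' := fun t a => by
        rw [Matrix.smul_vecMulVec, map_smul, Matrix.smul_mulVec, RingHom.id_apply] }
  have hN : ∀ z, X (vecMulVec z b) = vecMulVec (N₀ z) b := by
    intro z
    obtain ⟨y, hy⟩ := hfix z
    show _ = vecMulVec (X (vecMulVec z b) *ᵥ d) b
    rw [hy, vecMulVec_mulVec', hd, one_smul]
  have hNN : ∀ z, N₀ (N₀ z) = 0 := fun z => by
    show X (vecMulVec (N₀ z) b) *ᵥ d = 0
    rw [← hN, hX.sq, Matrix.zero_mulVec]
  obtain ⟨h, hh, hhX⟩ := hX.mem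
  have key : ∀ ν : Fin k → F, b ⬝ᵥ ν = 0 → ∃ ν' : Fin k → F, ∀ a v,
      X (vecMulVec a v) *ᵥ ν = (v ⬝ᵥ (ν - ν')) • a + (v ⬝ᵥ ν') • N₀ a := by
    intro ν hν
    let Φ : V →ₗ[F] (Fin m → F) := (LinearMap.id + N₀) ∘ₗ
      ({ toFun := fun M => (M - X M) *ᵥ ν
         map_add' := fun M N => by rw [← Matrix.add_mulVec, map_add]; congr 1; abel
         map_smul' := fun t M => by
           rw [map_smul, ← smul_sub, Matrix.smul_mulVec, RingHom.id_apply] } : V →ₗ[F] (Fin m → F))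
    have hΦ : ∀ M, Φ M = (M - X M) *ᵥ ν + N₀ ((M - X M) *ᵥ ν) := fun M => rfl
    let a₁ : V →ₗ[F] V :=
      { toFun := fun M => vecMulVec (Φ M) b
        map_add' := fun M N => by rw [map_add, Matrix.add_vecMulVec]
        map_smul' := fun t M => by rw [map_smul, Matrix.smul_vecMulVec, RingHom.id_apply] }
    have hb0 : ∀ a, Φ (vecMulVec a b) = 0 := fun a => by
      rw [hΦ, hN, Matrix.sub_mulVec, vecMulVec_mulVec', vecMulVec_mulVec', hν]
      simp
    have ha₁ : InG G a₁ := InG.conj (InC.one hG hν) hh fun M => by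
      show vecMulVec (Φ (h M)) b = h (lin b ν 1 M)
      rw [hhX, hhX, lin_apply', Matrix.one_mulVec, hΦ, hN, map_add X, hX.sq, add_zero,
        add_sub_cancel_right, Matrix.add_vecMulVec]
    obtain ⟨ν', hν'⟩ := rad_scalar hG hk hR hb Φ hb0 a₁ (fun M => rfl) ha₁
    refine ⟨ν', fun a v => ?_⟩
    have h1 := hν' (vecMulVec a v)
    rw [hΦ, Matrix.sub_mulVec, vecMulVec_mulVec', vecMulVec_mulVec'] at h1
    set P := (v ⬝ᵥ ν) • a - X (vecMulVec a v) *ᵥ ν
    have h2 := congrArg N₀ h1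
    rw [map_add, hNN, add_zero, map_smul] at h2
    have h3 : P = (v ⬝ᵥ ν') • a - (v ⬝ᵥ ν') • N₀ a := by rw [← h2, ← h1]; abel
    rw [dotProduct_sub, sub_smul]
    linear_combination (norm := (simp only [P]; module)) -h3
  have hd0 : ∀ ν : Fin k → F, b ⬝ᵥ ν = 0 →
      ∀ a v, X (vecMulVec a v) *ᵥ ν = (v ⬝ᵥ ν) • N₀ a := by
    intro ν hν
    obtain ⟨ν', hν'⟩ := key ν hν
    rcases eq_or_ne (ν - ν') 0 with h0 | h0
    · intro a v
      rw [hν', h0, dotProduct_zero, zero_smul, zero_add, sub_eq_zero.1 h0]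
    · exfalso
      obtain ⟨v, -, hv⟩ := exists_dot_pair (x := (0 : Fin k → F)) (y := ν - ν') (by simpa using h0)
      rw [dotProduct_comm] at hv
      refine ha₀ (quad_mulVec_surj hX ν (fun a => ⟨vecMulVec (a - (v ⬝ᵥ ν') • N₀ a) v, ?_⟩)
        (hX.range ▸ LinearMap.mem_range_self X _)
        (rline_mulVec hν (hfix a₀)))
      rw [hν', hv, one_smul, map_sub, map_smul, hNN, smul_zero, sub_zero, sub_add_cancel]
  let L : (Fin k → F) →ₗ[F] W :=
    { toFun := fun v => ⟨X (vecMulVec a₀ v), hX.range ▸ LinearMap.mem_range_self X _⟩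
      map_add' := fun v w => Subtype.ext (by simp [Matrix.vecMulVec_add])
      map_smul' := fun t v => Subtype.ext (by simp [Matrix.vecMulVec_smul]) }
  have hinj : Function.Injective L := by
    rw [← LinearMap.ker_eq_bot, LinearMap.ker_eq_bot']
    intro v hv
    have hv' : X (vecMulVec a₀ v) = 0 := congrArg Subtype.val hv
    have hN0 : N₀ a₀ ≠ 0 := fun e => ha₀ (by rw [hN, e]; simp)
    obtain ⟨c, hc⟩ := mem_span_of_perp (v := v) hb fun ν hν => by
      have h1 := hd0 ν hν a₀ v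
      rw [hv', Matrix.zero_mulVec] at h1
      exact (smul_eq_zero.1 h1.symm).resolve_right hN0
    rw [hc, Matrix.vecMulVec_smul, map_smul, smul_eq_zero, or_iff_left ha₀] at hv'
    rw [hc, hv', zero_smul]
  have := LinearMap.finrank_le_finrank_of_injective hinj
  rw [hX.moved.finrank_eq, finrank_fin_fun] at this
  omega

theorem map_rline_eq_iff_mem {g : V ≃ₗ[F] V} {v b : Fin k → F} (hv : v ≠ 0) (hb : b ≠ 0) :
    (rline (m := m) v).map (g : V →ₗ[F] V) = rline b ↔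
      ∀ a, g (vecMulVec a v) ∈ rline b := by
  refine ⟨fun h a => h ▸ ⟨_, ⟨a, rfl⟩, rfl⟩, fun h => Submodule.eq_of_le_of_finrank_eq ?_ ?_⟩
  · rintro _ ⟨_, ⟨a, rfl⟩, rfl⟩
    exact h a
  · rw [LinearEquiv.finrank_map_eq, finrank_rline hv, finrank_rline hb]

/-- There is a non-scalar coefficient. -/
theorem rich (hG : OverT G) (hm : 2 ≤ m) (hmk : m < k) (hmov : ∃ W, Moved G W) : Rich G := by
  classical
  by_contra hR
  have hk : 3 ≤ k := by omega
  -- a quadratic element moves a line to a new one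
  have push_line : ∀ {X : V →ₗ[F] V} {W : Submodule F V}, Quad G X W → ∀ {h : V ≃ₗ[F] V}, h ∈ G →
      (∀ M, h M = M + X M) → ∀ {b : Fin k → F}, b ≠ 0 → ∀ {z : V}, z ∈ rline b → z ≠ 0 → X z = 0 →
      Moved G ((rline (m := m) b).map (h : V →ₗ[F] V)) := by
    intro X W hX h hh hhX b hb z hz hz0 hXz
    refine ⟨⟨h, hh, b, hb, rfl⟩, fun c hc e => ?_⟩
    have hzc : z ∈ rline (m := m) c := e ▸ ⟨z, hz, by
      show h z = z
      rw [hhX, hXz, add_zero]⟩
    have ec : rline (m := m) c = rline b := rline_eq_of_common hz0 hzc hz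
    refine not_fix hG hk hmk hR hX hb fun a => ?_
    have h1 : h (vecMulVec a b) ∈ rline (m := m) b := ec ▸ e ▸ ⟨_, ⟨a, rfl⟩, rfl⟩
    rw [hhX] at h1
    simpa using Submodule.sub_mem _ h1 ⟨a, rfl⟩
  -- a moved line meets a line
  obtain ⟨W₀, hW₀⟩ := hmov
  obtain ⟨⟨g₀, hg₀, v₀, hv₀, rfl⟩, -⟩ := id hW₀
  obtain ⟨μ₀, hμ₀, hvμ₀, -⟩ := exists_perp_ne_zero hk v₀ v₀
  obtain ⟨X₀, hX₀, hX₀e⟩ := exists_transl hG hg₀ hvμ₀
  have hQ₀ := quad_of_transl hμ₀ hvμ₀ hX₀ hX₀e hW₀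
  obtain ⟨h₀, hh₀, hh₀X⟩ := id hQ₀.mem
  let a₁ : Fin m → F := Pi.single ⟨0, by omega⟩ 1
  have ha₁ : a₁ ≠ 0 := by simp [a₁]
  obtain ⟨v₁, hv₁, hXv₁⟩ : ∃ v₁ : Fin k → F, v₁ ≠ 0 ∧ X₀ (vecMulVec a₁ v₁) = 0 := by
    let L : (Fin k → F) →ₗ[F] ((rline (m := m) v₀).map (g₀ : V →ₗ[F] V) : Submodule F V) :=
      { toFun := fun v => ⟨X₀ (vecMulVec a₁ v), by rw [← hQ₀.range]; exact LinearMap.mem_range_self X₀ _⟩
        map_add' := fun v w => Subtype.ext (by simp [Matrix.vecMulVec_add])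
        map_smul' := fun t v => Subtype.ext (by simp [Matrix.vecMulVec_smul]) }
    have hL : LinearMap.ker L ≠ ⊥ := fun h => by
      have := LinearMap.finrank_le_finrank_of_injective (LinearMap.ker_eq_bot.1 h)
      rw [hQ₀.moved.finrank_eq, finrank_fin_fun] at this
      omega
    obtain ⟨v, hv, hv0⟩ := Submodule.exists_mem_ne_zero_of_ne_bot hL
    exact ⟨v, hv0, congrArg Subtype.val (LinearMap.mem_ker.1 hv)⟩
  have hz₁ : vecMulVec a₁ v₁ ≠ 0 := fun e =>
    ha₁ (vecMulVec_left_injective (m := m) hv₁ (show vecMulVec a₁ v₁ = vecMulVec 0 v₁ by simp [e]))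
  -- pairs with a given intersection exist
  let P : ℕ → Prop := fun d => ∃ W b, Moved G W ∧ b ≠ 0 ∧ d ≤ finrank F ↥(W ⊓ rline (m := m) b)
  have hP1 : P 1 := by
    refine ⟨_, v₁, push_line hQ₀ hh₀ hh₀X hv₁ ⟨a₁, rfl⟩ hz₁ hXv₁, hv₁, ?_⟩
    rw [Nat.one_le_iff_ne_zero]
    intro h0
    rw [Submodule.finrank_eq_zero] at h0
    refine hz₁ ((Submodule.eq_bot_iff _).1 h0 _ ⟨⟨_, ⟨a₁, rfl⟩, ?_⟩, a₁, rfl⟩)
    show h₀ _ = _
    rw [hh₀X, hXv₁, add_zero]
  suffices hstep : ∀ D, 1 ≤ D → P D → P (D + 1) by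
    have hall : ∀ D, 1 ≤ D → P D := fun D hD =>
      Nat.le_induction hP1 (fun d hd h => hstep d hd h) D hD
    obtain ⟨W, b, hW, -, hle⟩ := hall (m + 1) (by omega)
    have := Submodule.finrank_mono (inf_le_left : W ⊓ rline (m := m) b ≤ W)
    rw [hW.finrank_eq] at this
    omega
  intro D hD hPD
  by_contra hmax
  have hle : ∀ W b, Moved G W → b ≠ 0 → finrank F ↥(W ⊓ rline (m := m) b) ≤ D := fun W b hW hb => by
    by_contra h
    exact hmax ⟨W, b, hW, hb, by omega⟩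
  -- outside the intersection no element is deficient
  have star : ∀ W b, Moved G W → b ≠ 0 → finrank F ↥(W ⊓ rline (m := m) b) = D → ∀ w ∈ W,
      w ∉ rline (m := m) b → ∀ μ : Fin k → F, b ⬝ᵥ μ = 0 → w *ᵥ μ = 0 → μ = 0 := by
    intro W b hW hb hd w hwW hwb μ hbμ hwμ
    by_contra hμ
    obtain ⟨⟨g, hg, v, hv, rfl⟩, -⟩ := id hW
    obtain ⟨X, hX, hXe⟩ := exists_transl hG (G.inv_mem hg) hbμ
    obtain ⟨z, hz, hz0⟩ := Submodule.exists_mem_ne_zero_of_ne_bot
      (p := (rline (m := m) v).map (g : V →ₗ[F] V) ⊓ rline b) (fun e => by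
        rw [e, finrank_bot] at hd
        omega)
    obtain ⟨z', hz', rfl⟩ := hz.1
    have hmov' : Moved G ((rline (m := m) b).map ((g⁻¹ : V ≃ₗ[F] V) : V →ₗ[F] V)) := by
      refine ⟨⟨g⁻¹, G.inv_mem hg, b, hb, rfl⟩, fun c hc e => ?_⟩
      have hz'c : z' ∈ rline (m := m) c := e ▸ ⟨g z', hz.2, g.symm_apply_apply z'⟩
      have hz'0 : z' ≠ 0 := fun h => hz0 (by simp [h])
      have ec := rline_eq_of_common hz'0 hz'c hz'
      refine hW.2 b hb ?_
      rw [← ec, ← e, ← Submodule.map_comp]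
      exact (congrArg (fun f => Submodule.map f (rline (m := m) b))
        (LinearMap.ext fun M => g.apply_symm_apply M)).trans (Submodule.map_id _)
    have hQ := quad_of_transl hμ hbμ hX hXe hmov'
    obtain ⟨h, hh, hhX⟩ := id hQ.mem
    have hXg : ∀ M, M *ᵥ μ = 0 → X (g.symm M) = 0 := fun M hM => by
      rw [show g.symm M = (g⁻¹ : V ≃ₗ[F] V) M from rfl, hXe, hM]
      simp
    have hz'0 : z' ≠ 0 := fun h => hz0 (by simp [h])
    have hXz : X z' = 0 := by
      simpa using hXg (g z') (rline_mulVec hbμ hz.2)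
    have hmov'' := push_line hQ hh hhX hv hz' hz'0 hXz
    have hlt : ((rline (m := m) v).map (g : V →ₗ[F] V) ⊓ rline b).map
        ((g⁻¹ : V ≃ₗ[F] V) : V →ₗ[F] V) <
        (rline (m := m) v).map (h : V →ₗ[F] V) ⊓ rline v := by
      refine lt_of_le_of_ne ?_ fun e => hwb ?_
      · rintro _ ⟨M, ⟨⟨N, hN, rfl⟩, hMb⟩, rfl⟩
        refine ⟨⟨N, hN, ?_⟩, ?_⟩
        · show h N = g.symm (g N)
          rw [hhX, g.symm_apply_apply]
          have := hXg (g N) (rline_mulVec hbμ hMb)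
          rw [g.symm_apply_apply] at this
          rw [this, add_zero]
        · show g.symm (g N) ∈ rline v
          rwa [g.symm_apply_apply]
      · obtain ⟨N, hN, rfl⟩ := hwW
        have hXN : X N = 0 := by simpa using hXg (g N) hwμ
        have hN' : N ∈ (rline (m := m) v).map (h : V →ₗ[F] V) ⊓ rline v :=
          ⟨⟨N, hN, by show h N = N; rw [hhX, hXN, add_zero]⟩, hN⟩
        rw [← e] at hN'
        obtain ⟨M, hM, hMN⟩ := hN'
        have : M = g N := (LinearEquiv.symm_apply_eq g).1 hMN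
        exact this ▸ hM.2
    have h1 := Submodule.finrank_lt_finrank_of_lt hlt
    rw [LinearEquiv.finrank_map_eq, hd] at h1
    exact absurd (hle _ v hmov'' hv) (by omega)
  obtain ⟨W, b, hW, hb, hd⟩ := hPD
  have hd : finrank F ↥(W ⊓ rline (m := m) b) = D := le_antisymm (hle W b hW hb) hd
  obtain ⟨w, hwW, hwb⟩ := SetLike.not_le_iff_exists.1 (hW.not_le hb)
  obtain ⟨⟨g, hg, v, hv, rfl⟩, -⟩ := id hW
  -- the linear map injective on the perpendicular space forces `k = m + 1`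
  have hkm : k = m + 1 := by
    let L : (Fin k → F) →ₗ[F] F × (Fin m → F) :=
      { toFun := fun μ => (b ⬝ᵥ μ, w *ᵥ μ)
        map_add' := fun x y => by simp [dotProduct_add, Matrix.mulVec_add]
        map_smul' := fun t x => by simp [dotProduct_smul, Matrix.mulVec_smul] }
    have hinj : Function.Injective L := by
      rw [← LinearMap.ker_eq_bot, LinearMap.ker_eq_bot']
      intro μ hμ
      simp only [L, LinearMap.coe_mk, AddHom.coe_mk, Prod.mk_eq_zero] at hμ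
      exact star _ b hW hb hd w hwW hwb μ hμ.1 hμ.2
    have := LinearMap.finrank_le_finrank_of_injective hinj
    rw [Module.finrank_prod, finrank_self, finrank_fin_fun, finrank_fin_fun] at this
    omega
  -- the element `q`
  obtain ⟨x, hx, hbx, -⟩ := exists_perp_ne_zero hk b b
  obtain ⟨y, hyx, hyb⟩ : ∃ y : Fin k → F, y ⬝ᵥ x = 1 - (-1 : F) ^ k ∧ ∀ c : F, y ≠ c • b := by
    obtain ⟨y₀, -, hy₀⟩ := exists_dot_pair (x := (0 : Fin k → F)) (y := x) (by simpa using hx)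
    rw [dotProduct_comm] at hy₀
    obtain ⟨y₁, hy₁, -, hy₁b⟩ := exists_perp_notMem (by simpa using hk) x b
    by_cases hcb : ∀ c : F, (1 - (-1 : F) ^ k) • y₀ ≠ c • b
    · exact ⟨(1 - (-1 : F) ^ k) • y₀, by rw [smul_dotProduct, hy₀, smul_eq_mul, mul_one], hcb⟩
    · push Not at hcb
      obtain ⟨c, hc⟩ := hcb
      refine ⟨(1 - (-1 : F) ^ k) • y₀ + y₁,
        by rw [add_dotProduct, smul_dotProduct, hy₀, hy₁, smul_eq_mul, mul_one, add_zero],
        fun t e => hy₁b (t - c) ?_⟩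
      rw [sub_smul, ← hc, ← e]
      abel
  set q : Matrix (Fin k) (Fin k) F := -1 + vecMulVec x y with hq
  have hdet : q.det = 1 := by
    rw [hq, show -1 + vecMulVec x y = -tvMat x (-y) by
      rw [tvMat, Matrix.vecMulVec_neg, neg_add, neg_neg], Matrix.det_neg, Fintype.card_fin, det_tvMat,
      neg_dotProduct, hyx, ← sub_eq_add_neg, sub_sub_cancel, ← mul_pow, neg_one_mul, neg_neg, one_pow]
  obtain ⟨r, hr, hrM⟩ := hG.right q hdet
  have hMq : ∀ M : V, M * q + M = vecMulVec (M *ᵥ x) y := fun M => by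
    rw [hq, Matrix.mul_add, Matrix.mul_neg, Matrix.mul_one, Matrix.mul_vecMulVec]
    abel
  have hrb : ∀ M ∈ rline (m := m) b, r M = -M := fun M hM => by
    refine eq_neg_of_add_eq_zero_left ?_
    rw [hrM, hMq, rline_mulVec hbx hM]
    simp
  obtain ⟨μ₁, hμ₁, hyμ₁, hbμ₁⟩ := exists_perp_ne_zero hk y b
  have hkillμ : (w + r w) *ᵥ μ₁ = 0 := by
    rw [hrM, add_comm, hMq, vecMulVec_mulVec', hyμ₁, zero_smul]
  have hout : w + r w ∉ rline (m := m) b := by
    intro hm'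
    obtain ⟨ν, hbν, hyν⟩ := exists_dot_pair hyb
    have h1 := rline_mulVec hbν hm'
    rw [hrM, add_comm, hMq, vecMulVec_mulVec', hyν, one_smul] at h1
    exact hx (star _ b hW hb hd w hwW hwb x hbx h1)
  -- `w + r w` never lies in the moved line
  have hnotW : r w ∉ (rline (m := m) v).map (g : V →ₗ[F] V) := fun h =>
    hμ₁ (star _ b hW hb hd _ (Submodule.add_mem _ hwW h) hout μ₁ hbμ₁ hkillμ)
  -- the preimage of `r w` is not deficient
  have hu : g.symm (r w) ∉ rline (m := m) v := fun h => hnotW ⟨_, h, g.apply_symm_apply _⟩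
  set W' := (rline (m := m) v).map ((r * g : V ≃ₗ[F] V) : V →ₗ[F] V) with hW'
  have hrgu : r w ∈ W' := by
    obtain ⟨N, hN, rfl⟩ := hwW
    exact ⟨N, hN, rfl⟩
  have hDW' : (rline (m := m) v).map (g : V →ₗ[F] V) ⊓ rline b ≤ W' := by
    rintro M ⟨⟨N, hN, rfl⟩, hMb⟩
    refine ⟨-N, (rline v).neg_mem hN, ?_⟩
    show r (g (-N)) = g N
    rw [map_neg, map_neg, hrb (g N) hMb, neg_neg]
  obtain ⟨z, hz, hz0⟩ := Submodule.exists_mem_ne_zero_of_ne_bot
    (p := (rline (m := m) v).map (g : V →ₗ[F] V) ⊓ rline b) (fun e => by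
      rw [e, finrank_bot] at hd
      omega)
  set U := W'.map ((g⁻¹ : V ≃ₗ[F] V) : V →ₗ[F] V) with hU
  have hmovU : Moved G U := by
    refine ⟨⟨g⁻¹ * (r * g), G.mul_mem (G.inv_mem hg) (G.mul_mem hr hg), v, hv, ?_⟩, fun c hc e => ?_⟩
    · rw [hU, hW', ← Submodule.map_comp]
      rfl
    · obtain ⟨N, hN, hgN⟩ := hz.1
      have hN0 : N ≠ 0 := fun h => hz0 (by rw [← hgN, h, map_zero])
      have hNc : N ∈ rline (m := m) c := e ▸ ⟨z, hDW' hz, by
        show g.symm z = N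
        rw [← hgN]
        exact g.symm_apply_apply N⟩
      have ec := rline_eq_of_common hN0 hNc hN
      exact hu (ec ▸ e ▸ ⟨_, hrgu, rfl⟩)
  have hdU : finrank F ↥(U ⊓ rline (m := m) v) = D := by
    refine le_antisymm (hle U v hmovU hv) ?_
    have hle2 : ((rline (m := m) v).map (g : V →ₗ[F] V) ⊓ rline b).map
        ((g⁻¹ : V ≃ₗ[F] V) : V →ₗ[F] V) ≤ U ⊓ rline v := by
      rintro _ ⟨M, hM, rfl⟩
      refine ⟨⟨M, hDW' hM, rfl⟩, ?_⟩
      obtain ⟨N, hN, rfl⟩ := hM.1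
      show g.symm (g N) ∈ rline v
      rwa [g.symm_apply_apply]
    have := Submodule.finrank_mono hle2
    rwa [LinearEquiv.finrank_map_eq, hd] at this
  have hfull : ∀ μ : Fin k → F, v ⬝ᵥ μ = 0 → g.symm (r w) *ᵥ μ = 0 → μ = 0 :=
    star U v hmovU hv hdU _ ⟨_, hrgu, rfl⟩ hu
  -- translate `r w` by `w`
  obtain ⟨N, hN, hNw⟩ := id hwW
  obtain ⟨a, rfl⟩ := hN
  obtain ⟨μ, hvμ, hμa⟩ : ∃ μ : Fin k → F, v ⬝ᵥ μ = 0 ∧ g.symm (r w) *ᵥ μ = a := by
    let P₀ : (Fin k → F) →ₗ[F] F × (Fin m → F) :=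
      { toFun := fun μ => (v ⬝ᵥ μ, g.symm (r w) *ᵥ μ)
        map_add' := fun p p' => by simp [dotProduct_add, Matrix.mulVec_add]
        map_smul' := fun t p => by simp [dotProduct_smul, Matrix.mulVec_smul] }
    have hinj : Function.Injective P₀ := by
      rw [← LinearMap.ker_eq_bot, LinearMap.ker_eq_bot']
      intro μ hμ
      simp only [P₀, LinearMap.coe_mk, AddHom.coe_mk, Prod.mk_eq_zero] at hμ
      exact hfull μ hμ.1 hμ.2
    obtain ⟨μ, hμ⟩ := (LinearMap.injective_iff_surjective_of_finrank_eq_finrank (by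
      rw [Module.finrank_prod, finrank_self, finrank_fin_fun, finrank_fin_fun]
      omega)).1 hinj (0, a)
    simp only [P₀, LinearMap.coe_mk, AddHom.coe_mk, Prod.mk.injEq] at hμ
    exact ⟨μ, hμ.1, hμ.2⟩
  obtain ⟨X, hX, hXe⟩ := exists_transl hG hg hvμ
  obtain ⟨h, hh, hhX⟩ := hX
  have hfixD : ∀ M ∈ (rline (m := m) v).map (g : V →ₗ[F] V), h M = M := by
    rintro _ ⟨N', ⟨c, rfl⟩, rfl⟩
    show h (g _) = g _
    rw [hhX, hXe, vecMulVec_mulVec', hvμ]
    simp
  have hwmem : r w + w ∈ W'.map (h : V →ₗ[F] V) := by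
    refine ⟨r w, hrgu, ?_⟩
    show h (r w) = r w + w
    rw [hhX]
    congr 1
    rw [← g.apply_symm_apply (r w), hXe, hμa]
    exact hNw
  have hmov3 : Moved G (W'.map (h : V →ₗ[F] V)) := by
    refine ⟨⟨h * (r * g), G.mul_mem hh (G.mul_mem hr hg), v, hv, ?_⟩, fun c hc e => ?_⟩
    · rw [hW', ← Submodule.map_comp]
      rfl
    · have hzc : z ∈ rline (m := m) c := e ▸ ⟨z, hDW' hz, hfixD z hz.1⟩
      have ec := rline_eq_of_common hz0 hzc hz.2
      refine hout ?_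
      rw [add_comm]
      exact ec ▸ e ▸ hwmem
  have hd3 : finrank F ↥(W'.map (h : V →ₗ[F] V) ⊓ rline (m := m) b) = D := by
    refine le_antisymm (hle _ b hmov3 hb) ?_
    rw [← hd]
    exact Submodule.finrank_mono fun M hM => ⟨⟨M, hDW' hM, hfixD M hM.1⟩, hM.2⟩
  exact hμ₁ (star _ b hmov3 hb hd3 _ (by rw [add_comm]; exact hwmem) hout μ₁ hbμ₁ hkillμ)

end Cfsg.Lib.Linear.TensorLine
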